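import Mathlib
import Cfsg.Agent.H58.FormInvariants
import Cfsg.Agent.H52.OrthoRankForms
import Cfsg.Agent.Orthogonal.Spinor

/-!
# Pieces for centralisers of semisimple orthogonal elements: commutants, determinants, Levi spinor norms
-/

set_option autoImplicit false
set_option linter.unusedSectionVars false
set_option linter.unusedVariables false

namespace Cfsg.Agent.H96.OrthClass

open Matrix Module Cfsg.Agent.Orthogonal
open QuadraticMap (polar)

universe u v

variable {F : Type u} [Field F] {V : Type v} [AddCommGroup V] [Module F V]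

/-! ### The commutant of an irreducible operator -/

/-- The commutant of `T`. -/
abbrev commutant (T : Module.End F V) : Subalgebra F (Module.End F V) :=
  Subalgebra.centralizer F ({T} : Set (Module.End F V))

theorem mem_commutant {T S : Module.End F V} : S ∈ commutant T ↔ ∀ x, S (T x) = T (S x) := by
  rw [Subalgebra.mem_centralizer_iff]
  exact ⟨fun h x => (LinearMap.congr_fun (h T rfl) x).symm, fun h g hg => by
    rw [Set.mem_singleton_iff] at hg; subst hg; exact LinearMap.ext fun x => (h x).symm⟩

/-- No invariant subspaces but the trivial ones. -/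
def Irred (T : Module.End F V) : Prop :=
  ∀ U : Submodule F V, (∀ x ∈ U, T x ∈ U) → U = ⊥ ∨ U = ⊤

variable {T : Module.End F V}

/-- A member of the commutant evaluated at a vector. -/
noncomputable def evalC (T : Module.End F V) (x : V) : commutant T →ₗ[F] V :=
  (LinearMap.applyₗ x).comp (commutant T).val.toLinearMap

theorem evalC_apply (x : V) (c : commutant T) : evalC T x c = (c : Module.End F V) x := rfl

theorem eq_zero_of_apply (hirr : Irred T) {c : commutant T} {x : V} (hx : x ≠ 0)
    (h : (c : Module.End F V) x = 0) : c = 0 := by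
  rcases hirr (LinearMap.ker (c : Module.End F V)) (fun y hy => by
    rw [LinearMap.mem_ker] at hy ⊢; rw [mem_commutant.1 c.2, hy, map_zero]) with hk | hk
  · exact absurd (show x ∈ (⊥ : Submodule F V) by rw [← hk]; exact h) (by simpa using hx)
  · exact Subtype.ext (LinearMap.ext fun y => by
      have : y ∈ LinearMap.ker (c : Module.End F V) := hk ▸ Submodule.mem_top
      simpa using this)

theorem evalC_bijective (hirr : Irred T) {x : V} (hx : x ≠ 0) : Function.Bijective (evalC T x) := by
  refine ⟨(injective_iff_map_eq_zero _).2 fun c hc => eq_zero_of_apply hirr hx hc, LinearMap.range_eq_top.1 ?_⟩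
  refine (hirr _ fun y hy => ?_).resolve_left fun hb => hx ?_
  · obtain ⟨c, rfl⟩ := hy
    exact ⟨⟨T * c, mul_mem (mem_commutant.2 fun _ => rfl) c.2⟩, rfl⟩
  · have : x ∈ LinearMap.range (evalC T x) := ⟨1, by simp [evalC_apply]⟩
    rw [hb] at this
    exact (Submodule.mem_bot F).1 this

section Field

variable [FiniteDimensional F V] [Finite F]

theorem finite_commutant (hirr : Irred T) [Nontrivial V] : Finite (commutant T) := by
  obtain ⟨x, hx⟩ := exists_ne (0 : V)
  have : Finite V := Module.finite_of_finite F
  exact Finite.of_injective _ (evalC_bijective hirr hx).1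

theorem commutant_isField (hirr : Irred T) [Nontrivial V] : IsField (commutant T) := by
  have := finite_commutant hirr
  obtain ⟨x, hx⟩ := exists_ne (0 : V)
  have : Nontrivial (commutant T) := ⟨0, 1, fun h => hx (by
    simpa using (congrArg (fun c : commutant T => (c : Module.End F V) x) h).symm)⟩
  have : NoZeroDivisors (commutant T) := ⟨fun {a b} hab => by
    by_cases hb : b = 0
    · exact Or.inr hb
    · exact Or.inl (eq_zero_of_apply hirr (c := a) (x := (b : Module.End F V) x)
        (fun h0 => hb (eq_zero_of_apply hirr hx h0))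
        (by simpa using congrArg (fun c : commutant T => (c : Module.End F V) x) hab))⟩
  have : IsDomain (commutant T) := NoZeroDivisors.to_isDomain _
  exact Finite.isDomain_to_isField _

theorem commutant_comm (hirr : Irred T) [Nontrivial V] {a b : Module.End F V} (ha : a ∈ commutant T)
    (hb : b ∈ commutant T) : a * b = b * a :=
  congrArg Subtype.val ((commutant_isField hirr).mul_comm ⟨a, ha⟩ ⟨b, hb⟩)

/-- Every non-zero scalar is the determinant of an element of the commutant. -/
theorem exists_det_eq (hirr : Irred T) [Nontrivial V] (d : F) :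
    ∃ a ∈ commutant T, LinearMap.det a = d := by
  have := finite_commutant hirr
  obtain ⟨x, hx⟩ := exists_ne (0 : V)
  let _ : Field (commutant T) := (commutant_isField hirr).toField
  obtain ⟨c, hc⟩ := FiniteField.norm_surjective F (commutant T) d
  refine ⟨(c : Module.End F V), c.2, ?_⟩
  let e : commutant T ≃ₗ[F] V := LinearEquiv.ofBijective (evalC T x) (evalC_bijective hirr hx)
  have hce : (c : Module.End F V) = (e : commutant T →ₗ[F] V) ∘ₗ Algebra.lmul F (commutant T) c ∘ₗ
      (e.symm : V →ₗ[F] commutant T) := LinearMap.ext fun y => by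
    obtain ⟨b, rfl⟩ := e.surjective y
    simp only [LinearMap.comp_apply, LinearEquiv.coe_coe, LinearEquiv.symm_apply_apply]
    rfl
  rw [hce, LinearMap.det_conj, ← hc, Algebra.norm_apply]

/-- A square root of any scalar when the dimension is even. -/
theorem exists_sq_eq (hirr : Irred T) [Nontrivial V] (h2 : (2 : F) ≠ 0) {k : ℕ} (hk : finrank F V = 2 * k)
    (ν : F) : ∃ J ∈ commutant T, J * J = algebraMap F (Module.End F V) ν := by
  have := finite_commutant hirr
  have := Fintype.ofFinite F
  obtain ⟨x, hx⟩ := exists_ne (0 : V)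
  let _ : Field (commutant T) := (commutant_isField hirr).toField
  have := Fintype.ofFinite (commutant T)
  have hr : finrank F (commutant T) = 2 * k :=
    (LinearEquiv.ofBijective (evalC T x) (evalC_bijective hirr hx)).finrank_eq.trans hk
  suffices h : IsSquare (algebraMap F (commutant T) ν) by
    obtain ⟨r, hr⟩ := h
    exact ⟨(r : Module.End F V), r.2, (congrArg Subtype.val hr).symm⟩
  rcases eq_or_ne ν 0 with rfl | hν
  · rw [map_zero]; exact IsSquare.zero
  rw [FiniteField.isSquare_iff (fun h => by
      have h2C : (2 : commutant T) = 0 := by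
        have := CharP.cast_eq_zero (commutant T) (ringChar (commutant T))
        rw [h] at this
        exact_mod_cast this
      exact h2 ((algebraMap F (commutant T)).injective (by rw [map_ofNat, h2C, map_zero])))
    ((map_ne_zero _).2 hν)]
  have hcard : Fintype.card (commutant T) = Fintype.card F ^ (2 * k) := by
    rw [Module.card_eq_pow_finrank (K := F), hr]
  obtain ⟨j, hj⟩ : Odd (Fintype.card F) := by simpa using odd_natCard_of_two_ne_zero h2
  -- `(q^(2k) - 1) / 2` is a multiple of `q - 1`
  obtain ⟨t, ht⟩ : ∃ t, Fintype.card (commutant T) / 2 = (Fintype.card F - 1) * t := by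
    obtain ⟨i, hi⟩ : Fintype.card F ^ 2 - 1 ∣ (Fintype.card F ^ 2) ^ k - 1 ^ k := Nat.sub_dvd_pow_sub_pow _ 1 k
    rw [one_pow, ← pow_mul] at hi
    refine ⟨(j + 1) * i, ?_⟩
    rw [hcard]
    have h1 : Fintype.card F ^ 2 - 1 = 2 * ((Fintype.card F - 1) * (j + 1)) := by
      rw [hj, Nat.add_sub_cancel]
      have : (2 * j + 1) ^ 2 = 2 * (2 * j * (j + 1)) + 1 := by ring
      omega
    rw [h1, mul_assoc, mul_assoc] at hi
    have h1' : 1 ≤ Fintype.card F ^ (2 * k) := Nat.one_le_pow _ _ Fintype.card_pos
    omega
  rw [ht, pow_mul, ← map_pow, FiniteField.pow_card_sub_one_eq_one ν hν, map_one, one_pow]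

/-- If `T` is fixed by `x ↦ x ^ (q ^ j)`, the dimension is at most `j`. -/
theorem finrank_le_of_pow (hirr : Irred T) [Nontrivial V] {j : ℕ} (hj : j ≠ 0)
    (hT : T ^ (Nat.card F ^ j) = T) : finrank F V ≤ j := by
  have := finite_commutant hirr
  have := Fintype.ofFinite F
  obtain ⟨x, hx⟩ := exists_ne (0 : V)
  let _ : Field (commutant T) := (commutant_isField hirr).toField
  have := Fintype.ofFinite (commutant T)
  set t : commutant T := ⟨T, mem_commutant.2 fun _ => rfl⟩
  have hgen : Algebra.adjoin F ({t} : Set (commutant T)) = ⊤ := by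
    rw [eq_top_iff]
    intro c _
    have htop : ((Algebra.adjoin F ({t} : Set (commutant T))).toSubmodule).map (evalC T x) = ⊤ := by
      refine (hirr _ ?_).resolve_left fun hb => hx ?_
      · rintro _ ⟨b, hb, rfl⟩
        exact ⟨t * b, (Subalgebra.mem_toSubmodule _).2 (mul_mem (Algebra.subset_adjoin rfl) ((Subalgebra.mem_toSubmodule _).1 hb)), rfl⟩
      · have : x ∈ ((Algebra.adjoin F ({t} : Set (commutant T))).toSubmodule).map (evalC T x) :=
          ⟨1, (Subalgebra.mem_toSubmodule _).2 (one_mem _), by simp [evalC_apply]⟩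
        rw [hb] at this
        exact (Submodule.mem_bot F).1 this
    obtain ⟨b, hb, e⟩ : evalC T x c ∈ ((Algebra.adjoin F ({t} : Set (commutant T))).toSubmodule).map (evalC T x) := by
      rw [htop]; trivial
    rwa [← (evalC_bijective hirr hx).1 e]
  let φ : commutant T →ₐ[F] commutant T := (FiniteField.frobeniusAlgHom F (commutant T)) ^ j
  have hφ : ∀ c, φ c = c ^ (Fintype.card F ^ j) := fun c => by
    simp only [φ, AlgHom.coe_pow, FiniteField.coe_frobeniusAlgHom, pow_iterate]
  have hid : φ = AlgHom.id F (commutant T) := by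
    refine AlgHom.ext fun c => ?_
    have hle : Algebra.adjoin F ({t} : Set (commutant T)) ≤ AlgHom.equalizer φ (AlgHom.id F _) := by
      refine Algebra.adjoin_le ?_
      rintro _ rfl
      show φ t = t
      rw [hφ]
      exact Subtype.ext (by rw [SubmonoidClass.coe_pow, ← Nat.card_eq_fintype_card]; exact hT)
    exact hle (hgen ▸ Algebra.mem_top : c ∈ _)
  have hcard : Fintype.card (commutant T) ≤ Fintype.card F ^ j := by
    classical
    have hne : (Polynomial.X ^ (Fintype.card F ^ j) - Polynomial.X : Polynomial (commutant T)) ≠ 0 :=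
      FiniteField.X_pow_card_sub_X_ne_zero _ (Nat.one_lt_pow hj Fintype.one_lt_card)
    have hsub : (Finset.univ : Finset (commutant T)) ⊆
        (Polynomial.X ^ (Fintype.card F ^ j) - Polynomial.X : Polynomial (commutant T)).roots.toFinset := fun c _ => by
      rw [Multiset.mem_toFinset, Polynomial.mem_roots hne]
      simp [← hφ, hid]
    refine (Finset.card_le_card hsub).trans ((Multiset.toFinset_card_le _).trans ((Polynomial.card_roots' _).trans ?_))
    rw [FiniteField.X_pow_card_sub_X_natDegree_eq _ (Nat.one_lt_pow hj Fintype.one_lt_card)]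
  rw [Module.card_eq_pow_finrank (K := F)] at hcard
  rw [← (LinearEquiv.ofBijective (evalC T x) (evalC_bijective hirr hx)).finrank_eq]
  exact (Nat.pow_le_pow_iff_right Fintype.one_lt_card).1 hcard

end Field

/-! ### Determinants of similitudes of an alternating form -/

/-- A non-degenerate alternating form forces even dimension and determinant a power of the multiplier. -/
theorem det_of_alternating [FiniteDimensional F V] (h2 : (2 : F) ≠ 0) (D : LinearMap.BilinForm F V)
    (hskew : ∀ x y, D y x = -D x y) (hnd : ∀ x, (∀ y, D x y = 0) → x = 0) :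
    ∃ k, finrank F V = 2 * k ∧ ∀ (g : Module.End F V) (c : F), c ≠ 0 → (∀ x y, D (g x) (g y) = c * D x y) →
      LinearMap.det g = c ^ k := by
  let b := Module.finBasis F V
  set H := LinearMap.BilinForm.toMatrix b D with hH
  have hT : Hᵀ = (-1 : F) • H := by
    ext i j
    rw [Matrix.transpose_apply, Matrix.smul_apply, hH, LinearMap.BilinForm.toMatrix_apply,
      LinearMap.BilinForm.toMatrix_apply, hskew, smul_eq_mul, neg_one_mul]
  have hd : H.det ≠ 0 := by
    have hN : D.Nondegenerate := ⟨hnd, fun y hy => hnd y fun x => by rw [hskew, hy, neg_zero]⟩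
    exact Matrix.nondegenerate_iff_det_ne_zero.1 ((LinearMap.BilinForm.nondegenerate_toMatrix_iff b).2 hN)
  obtain ⟨k, hk, hdet, -⟩ := H58.FormInvariants.skew_det h2 hd hT
  refine ⟨k, by simpa using hk, fun g c hc hg => ?_⟩
  rw [← LinearMap.det_toMatrix b]
  refine hdet _ c hc ?_
  show _ᵀ * H * _ = c • H
  rw [hH, ← LinearMap.BilinForm.toMatrix_comp b b, ← map_smul]
  congr 1
  exact LinearMap.ext₂ fun x y => hg x y

/-! ### The spinor norm on the Levi subgroup of a split space -/

section Levi

variable [Finite F] {k : ℕ}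

/-- `M ↦ M ⊕ M⁻ᵀ`. -/
noncomputable def leviGL (k : ℕ) : GL (Fin k) F →* GL (Fin k ⊕ Fin k) F :=
  MonoidHom.toHomUnits
    { toFun := fun M => fromBlocks (M : Matrix (Fin k) (Fin k) F) 0 0 ((M⁻¹ : GL (Fin k) F) : Matrix (Fin k) (Fin k) F)ᵀ
      map_one' := by simp
      map_mul' := fun A B => by simp [fromBlocks_multiply, _root_.mul_inv_rev, transpose_mul] }

theorem leviGL_mulVec (M : GL (Fin k) F) (x : Fin k ⊕ Fin k → F) :
    (leviGL k M : Matrix (Fin k ⊕ Fin k) (Fin k ⊕ Fin k) F) *ᵥ x =
      Sum.elim ((M : Matrix (Fin k) (Fin k) F) *ᵥ (x ∘ Sum.inl))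
        (((M⁻¹ : GL (Fin k) F) : Matrix (Fin k) (Fin k) F)ᵀ *ᵥ (x ∘ Sum.inr)) := by
  change fromBlocks (M : Matrix (Fin k) (Fin k) F) 0 0 ((M⁻¹ : GL (Fin k) F) : Matrix (Fin k) (Fin k) F)ᵀ *ᵥ x = _
  rw [fromBlocks_mulVec, zero_mulVec, zero_mulVec, add_zero, zero_add]

theorem formPlus_dot (x : Fin k ⊕ Fin k → F) : formPlus F k x = (x ∘ Sum.inl) ⬝ᵥ (x ∘ Sum.inr) := by
  simp [formPlus_coe, Cfsg.quadFormPlus, dotProduct]

/-- The embedding of `GL_k` in the split orthogonal group. -/
noncomputable def levi (k : ℕ) : GL (Fin k) F →* O (formPlus F k) :=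
  (toO (formPlus F k)).toMonoidHom.comp
    ((leviGL k).codRestrict (Cfsg.isometryGroup F ⇑(formPlus F k)) fun M => (mem_isometryGroup_iff _ _).2 fun x => by
      rw [leviGL_mulVec, formPlus_dot, formPlus_dot, Sum.elim_comp_inl, Sum.elim_comp_inr, dotProduct_mulVec,
        vecMul_transpose, mulVec_mulVec, ← Units.val_mul, inv_mul_cancel, Units.val_one, one_mulVec])

theorem levi_app (M : GL (Fin k) F) (x : Fin k ⊕ Fin k → F) :
    (levi k M : (Fin k ⊕ Fin k → F) ≃ₗ[F] (Fin k ⊕ Fin k → F)) x =
      Sum.elim ((M : Matrix (Fin k) (Fin k) F) *ᵥ (x ∘ Sum.inl))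
        (((M⁻¹ : GL (Fin k) F) : Matrix (Fin k) (Fin k) F)ᵀ *ᵥ (x ∘ Sum.inr)) := by
  rw [levi, MonoidHom.comp_apply, MulEquiv.coe_toMonoidHom, toO_apply]
  exact leviGL_mulVec M x

/-- The invertible diagonal matrices. -/
noncomputable def diagGL (k : ℕ) : (Fin k → Fˣ) →* GL (Fin k) F :=
  MonoidHom.toHomUnits
    { toFun := fun d => Matrix.diagonal fun i => (d i : F)
      map_one' := by simp
      map_mul' := fun a b => by simp }

theorem coe_diagGL (d : Fin k → Fˣ) : ((diagGL k d : GL (Fin k) F) : Matrix (Fin k) (Fin k) F)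
    = Matrix.diagonal fun i => (d i : F) := rfl

theorem levi_single (h2 : (2 : F) ≠ 0) (i : Fin k) (a : Fˣ) :
    levi k (diagGL k (Pi.mulSingle i a)) =
      rO (formPlus F k) (Sum.elim (Pi.single i 1) (Pi.single i (1 : F))) *
        rO (formPlus F k) (Sum.elim (Pi.single i 1) (Pi.single i (a : F))) := by
  refine O.ext_app fun x => ?_
  rw [levi_app, Subgroup.coe_mul, mul_app, rO_app, rO_app, coe_diagGL, ← map_inv, coe_diagGL, diagonal_transpose]
  have hQ : ∀ c : F, formPlus F k (Sum.elim (Pi.single i 1) (Pi.single i c)) = c := fun c => by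
    simp [formPlus_dot]
  have hp : ∀ (c : F) (y : Fin k ⊕ Fin k → F),
      polar (formPlus F k) (Sum.elim (Pi.single i 1) (Pi.single i c)) y = y (.inr i) + c * y (.inl i) := fun c y => by
    simp [polar_formPlus, Pi.single_apply, Finset.sum_add_distrib, mul_comm]
  simp only [hQ, hp, inv_one, one_mul]
  have ha := a.ne_zero
  funext s
  rcases s with s | s <;> by_cases hs : s = i
  all_goals first
    | (subst hs; simp [mulVec_diagonal]; field_simp; ring)
    | (simp [mulVec_diagonal, Pi.single_eq_of_ne hs, Pi.mulSingle_eq_of_ne hs])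

theorem spinor_levi (h2 : (2 : F) ≠ 0) (M : GL (Fin k) F) :
    spinor (formPlus F k) (formPlus_nondeg F k) h2 (levi k M) = sqSign (M : Matrix (Fin k) (Fin k) F).det ∧
      detSign (formPlus F k) (formPlus_nondeg F k) h2 (levi k M) = 1 := by
  let χ : GL (Fin k) F →* ℤˣ := (spinor (formPlus F k) (formPlus_nondeg F k) h2).comp (levi k)
  let δ : GL (Fin k) F →* ℤˣ := (detSign (formPlus F k) (formPlus_nondeg F k) h2).comp (levi k)
  let P : Matrix (Fin k) (Fin k) F → Prop := fun A =>
    ∀ h : A.det ≠ 0, χ (GeneralLinearGroup.mkOfDetNeZero A h) = sqSign A.det ∧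
      δ (GeneralLinearGroup.mkOfDetNeZero A h) = 1
  have hne : (M : Matrix (Fin k) (Fin k) F).det ≠ 0 := (Matrix.isUnits_det_units M).ne_zero
  have key : P (M : Matrix (Fin k) (Fin k) F) := by
    refine Matrix.diagonal_transvection_induction_of_det_ne_zero P _ hne ?_ ?_ ?_
    · intro D _ h
      have hD : ∀ i, D i ≠ 0 := fun i => by
        rw [det_diagonal, Finset.prod_ne_zero_iff] at h
        exact h i (Finset.mem_univ i)
      let d : Fin k → Fˣ := fun i => Units.mk0 (D i) (hD i)
      rw [show GeneralLinearGroup.mkOfDetNeZero (diagonal D) h = diagGL k d from Units.ext rfl, det_diagonal]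
      let sq : (Fin k → Fˣ) →* ℤˣ :=
        { toFun := fun e => sqSign (∏ i, (e i : F))
          map_one' := by simp [sqSign_of_isSquare]
          map_mul' := fun a b => by
            rw [show (∏ i, ((a * b) i : F)) = (∏ i, (a i : F)) * ∏ i, (b i : F) by simp [Finset.prod_mul_distrib]]
            exact sqSign_mul h2 (Finset.prod_ne_zero_iff.2 fun i _ => (a i).ne_zero)
              (Finset.prod_ne_zero_iff.2 fun i _ => (b i).ne_zero) }
      have hgen : ∀ (i : Fin k) (a : Fˣ), χ (diagGL k (Pi.mulSingle i a)) = sq (Pi.mulSingle i a) ∧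
          δ (diagGL k (Pi.mulSingle i a)) = 1 := by
        intro i a
        have hQ : ∀ c : F, formPlus F k (Sum.elim (Pi.single i 1) (Pi.single i c)) = c := fun c => by
          simp [formPlus_dot]
        have n1 : formPlus F k (Sum.elim (Pi.single i 1) (Pi.single i (1 : F))) ≠ 0 := by rw [hQ]; exact one_ne_zero
        have na : formPlus F k (Sum.elim (Pi.single i 1) (Pi.single i (a : F))) ≠ 0 := by rw [hQ]; exact a.ne_zero
        constructor
        · show spinor (formPlus F k) (formPlus_nondeg F k) h2 (levi k _) = sqSign (∏ j, ((Pi.mulSingle i a : Fin k → Fˣ) j : F))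
          rw [levi_single h2, map_mul, spinor_rO _ h2 n1, spinor_rO _ h2 na, hQ, hQ,
            sqSign_of_isSquare IsSquare.one, one_mul, ← Units.coe_prod, Fintype.prod_pi_mulSingle']
        · show detSign (formPlus F k) (formPlus_nondeg F k) h2 (levi k _) = 1
          rw [levi_single h2, map_mul, detSign_rO _ h2 n1, detSign_rO _ h2 na]; rfl
      have h1 : χ.comp (diagGL k) = sq := MonoidHom.pi_ext fun i a => (hgen i a).1
      have h1' : δ.comp (diagGL k) = 1 := MonoidHom.pi_ext fun i a => (hgen i a).2
      exact ⟨DFunLike.congr_fun h1 d, DFunLike.congr_fun h1' d⟩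
    · intro t h
      let t' : TransvectionStruct (Fin k) F := { t with c := t.c / 2 }
      have h' : t'.toMatrix.det ≠ 0 := by simp
      rw [show GeneralLinearGroup.mkOfDetNeZero t.toMatrix h =
          GeneralLinearGroup.mkOfDetNeZero t'.toMatrix h' * GeneralLinearGroup.mkOfDetNeZero t'.toMatrix h' from
        Units.ext (by
          show t.toMatrix = t'.toMatrix * t'.toMatrix
          rw [TransvectionStruct.toMatrix, TransvectionStruct.toMatrix, transvection_mul_transvection_same]
          · congr 1; show t.c = t.c / 2 + t.c / 2; field_simp; ring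
          · exact t.hij), map_mul, map_mul, Int.units_mul_self, Int.units_mul_self, TransvectionStruct.det,
        sqSign_of_isSquare IsSquare.one]
      exact ⟨rfl, rfl⟩
    · intro A B hA hB hPA hPB h
      rw [show GeneralLinearGroup.mkOfDetNeZero (A * B) h =
          GeneralLinearGroup.mkOfDetNeZero A hA * GeneralLinearGroup.mkOfDetNeZero B hB from Units.ext rfl,
        map_mul, map_mul, (hPA hA).1, (hPB hB).1, (hPA hA).2, (hPB hB).2, det_mul, sqSign_mul h2 hA hB]
      exact ⟨rfl, one_mul 1⟩
  have h := key hne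
  rwa [show GeneralLinearGroup.mkOfDetNeZero _ hne = M from Units.ext rfl] at h

end Levi

end Cfsg.Agent.H96.OrthClass
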