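import Mathlib
import Cfsg.Agent.H96.OrthClass.Pieces
import Cfsg.Agent.H55.OrthGraphOdd
import Cfsg.Agent.H54.InvariantForms

/-!
# Centralisers of fixed-point-free isometries of odd prime order meet every spinor class
-/

set_option autoImplicit false
set_option linter.unusedSectionVars false
set_option linter.unusedVariables false

namespace Cfsg.Agent.H96.OrthClass

open Matrix Module Cfsg.Agent.Orthogonal
open Cfsg.Agent.H52.OrthoRank (negSign negSign_plus negSign_minus)
open QuadraticMap (polar)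

universe u v

variable {F : Type u} [Field F] [Finite F] {V : Type v} [AddCommGroup V] [Module F V] [FiniteDimensional F V]
  {Q : QuadraticForm F V}

/-- The underlying operator. -/
abbrev op (A : O Q) : Module.End F V := ((A : V ≃ₗ[F] V) : V →ₗ[F] V)

theorem op_pow (A : O Q) (i : ℕ) (x : V) : (op A ^ i) x = ((A ^ i : O Q) : V ≃ₗ[F] V) x := by
  induction i generalizing x with
  | zero => rfl
  | succ i ih => rw [pow_succ, pow_succ, Module.End.mul_apply, Subgroup.coe_mul, mul_app, ih]; rfl

/-- An isometry with no fixed vector and of odd order prime to `p`. -/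
structure FF (A : O Q) (r : ℕ) : Prop where
  nondeg : Nondeg Q
  two : (2 : F) ≠ 0
  prime : r.Prime
  odd : Odd r
  ne : (r : F) ≠ 0
  pow : A ^ r = 1
  fix : ∀ x, (A : V ≃ₗ[F] V) x = x → x = 0

/-- Transport of reflections along a linear isometry. -/
theorem congrO_rO {V' : Type*} [AddCommGroup V'] [Module F V'] {Q' : QuadraticForm F V'} (e : V ≃ₗ[F] V')
    (he : ∀ x, Q' (e x) = Q x) (v : V) : congrO e he (rO Q v) = rO Q' (e v) := O.ext_app fun x => by
  have hp : polar Q' (e v) x = polar Q v (e.symm x) := by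
    simp only [polar, ← he, map_add, LinearEquiv.apply_symm_apply]
  rw [congrO_apply, rO_app, rO_app, map_sub, map_smul, LinearEquiv.apply_symm_apply, he, hp]

namespace FF

variable {A : O Q} {r : ℕ}

theorem fix_sq (h : FF A r) (x : V) (hx : (A : V ≃ₗ[F] V) ((A : V ≃ₗ[F] V) x) = x) : x = 0 := by
  have hp : ∀ j, ((A ^ (2 * j) : O Q) : V ≃ₗ[F] V) x = x := by
    intro j
    induction j with
    | zero => rfl
    | succ j ih =>
      rw [Nat.mul_succ, pow_add, Subgroup.coe_mul, mul_app, pow_two, Subgroup.coe_mul, mul_app, hx, ih]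
  obtain ⟨j, hj⟩ := h.odd
  refine h.fix x ?_
  have h1 := hp j
  have h2 : ((A ^ r : O Q) : V ≃ₗ[F] V) x = (A : V ≃ₗ[F] V) x := by
    rw [hj, pow_succ', Subgroup.coe_mul, mul_app, h1]
  rw [h.pow] at h2
  exact h2.symm

/-- The dimension is even and a similitude commuting with `A` has determinant a power of its multiplier. -/
theorem det_comm (h : FF A r) : ∃ k, finrank F V = 2 * k ∧ ∀ (g : Module.End F V) (c : F), c ≠ 0 →
    g ∈ commutant (op A) → (∀ x, Q (g x) = c * Q x) → LinearMap.det g = c ^ k := by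
  let D : LinearMap.BilinForm F V :=
    Q.polarBilin.compl₁₂ (op A) LinearMap.id - Q.polarBilin.compl₁₂ LinearMap.id (op A)
  have hD : ∀ x y, D x y = polar Q ((A : V ≃ₗ[F] V) x) y - polar Q x ((A : V ≃ₗ[F] V) y) := fun _ _ => rfl
  have hskew : ∀ x y, D y x = -D x y := fun x y => by
    rw [hD, hD, QuadraticMap.polar_comm _ ((A : V ≃ₗ[F] V) y), QuadraticMap.polar_comm _ y]; ring
  have hnd : ∀ x, (∀ y, D x y = 0) → x = 0 := fun x hx => by
    refine h.fix_sq x ?_
    refine sub_eq_zero.1 (h.nondeg _ fun z => ?_)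
    obtain ⟨y, rfl⟩ := (A : V ≃ₗ[F] V).surjective z
    rw [QuadraticMap.polar_sub_left, O.polar_app]
    exact (hD x y).symm.trans (hx y)
  obtain ⟨k, hk, hdet⟩ := det_of_alternating h.two D hskew hnd
  refine ⟨k, hk, fun g c hc hg hQg => hdet g c hc fun x y => ?_⟩
  have hgA : ∀ x, g ((A : V ≃ₗ[F] V) x) = (A : V ≃ₗ[F] V) (g x) := mem_commutant.1 hg
  have hp : ∀ a b, polar Q (g a) (g b) = c * polar Q a b := fun a b => by
    simp only [polar, ← map_add, hQg]; ring
  rw [hD, hD, ← hgA, ← hgA, hp, hp]; ring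

/-- Non-square `-δ` translates: some `a ^ 2 - δ b ^ 2` is a non-square. -/
theorem exists_nonsquare_value (h2 : (2 : F) ≠ 0) {δ : F} (hδ : δ ≠ 0) :
    ∃ a b n : F, ¬ IsSquare n ∧ a ^ 2 - δ * b ^ 2 = n := by
  obtain ⟨n, hn⟩ := exists_not_isSquare h2
  obtain ⟨a, b, hab⟩ := exists_sq_add_sq (F := F) one_ne_zero (neg_ne_zero.2 hδ) n
  exact ⟨a, b, n, hn, by linear_combination hab⟩

/-- Half-turn blocks of a skew operator with scalar square. -/
theorem exists_skew_turn (hQ : Nondeg Q) (h2 : (2 : F) ≠ 0) {J : Module.End F V} {δ : F} (hδ : δ ≠ 0)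
    (hJJ : ∀ x, J (J x) = δ • x) (hskew : ∀ x y, polar Q (J x) y = -polar Q x (J y)) {a b n : F}
    (hn : ¬ IsSquare n) (hab : a ^ 2 - δ * b ^ 2 = n) :
    ∀ d, ∀ W : Submodule F V, finrank F W = d → (∀ x ∈ W, J x ∈ W) → Nondeg (restr Q W) →
      ∃ w : O Q, ∃ j, finrank F W = 2 * j ∧
        (∀ x ∈ W, (w : V ≃ₗ[F] V) x = ((a ^ 2 + δ * b ^ 2) / n) • x + (2 * a * b / n) • J x) ∧
        (∀ y ∈ perp Q W, (w : V ≃ₗ[F] V) y = y) ∧
        spinor Q hQ h2 w = (-1) ^ j ∧ detSign Q hQ h2 w = 1 := by
  intro d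
  induction d using Nat.strong_induction_on with
  | _ d ih =>
    intro W hd hJW hW
    have hn0 : n ≠ 0 := fun h => hn (h ▸ IsSquare.zero)
    by_cases hbot : W = ⊥
    · subst hbot
      refine ⟨1, 0, by simp, fun x hx => ?_, fun y _ => rfl, by simp, by simp⟩
      rw [(Submodule.mem_bot F).1 hx, map_zero, map_zero, smul_zero, smul_zero, add_zero]
    obtain ⟨x0, hx0, hx0'⟩ := Submodule.exists_mem_ne_zero_of_ne_bot hbot
    obtain ⟨v', hv'⟩ := exists_anisotropic hW (x := (⟨x0, hx0⟩ : W)) (fun h => hx0' (congrArg Subtype.val h))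
    set v : V := (v' : V) with hv_def
    have hvW : v ∈ W := v'.2
    have hv : Q v ≠ 0 := hv'
    have ho : polar Q v (J v) = 0 := by
      have := hskew v v
      rw [QuadraticMap.polar_comm] at this
      exact (mul_eq_zero.1 (show (2 : F) * polar Q v (J v) = 0 by linear_combination this)).resolve_left h2
    have hQJ : Q (J v) = -δ * Q v := by
      have := hskew v (J v)
      rw [hJJ, polar_self', polar_smul_right', polar_self'] at this
      exact mul_left_cancel₀ h2 (by linear_combination this)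
    set g : V := a • v + b • J v with hg
    have hQg : Q g = n * Q v := by
      rw [hg, map_add_polar, qmap_smul, qmap_smul, polar_smul_left', polar_smul_right', ho, hQJ, ← hab]
      ring
    have hg0 : Q g ≠ 0 := by rw [hQg]; exact mul_ne_zero hn0 hv
    set P : Submodule F V := Submodule.span F {v, J v} with hP
    set W' : Submodule F V := W ⊓ perp Q P with hW'
    have hPperp : ∀ y, y ∈ perp Q P ↔ polar Q v y = 0 ∧ polar Q (J v) y = 0 := fun y => mem_perp_span_pair Q
    have hJv0 : Q (J v) ≠ 0 := by rw [hQJ]; exact mul_ne_zero (neg_ne_zero.2 hδ) hv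
    have hdec : ∀ x ∈ W, ∃ s t : F, x - (s • v + t • J v) ∈ W' := by
      intro x hx
      refine ⟨polar Q v x / (2 * Q v), polar Q (J v) x / (2 * Q (J v)),
        ⟨sub_mem hx (add_mem (W.smul_mem _ hvW) (W.smul_mem _ (hJW v hvW))), (hPperp _).2 ⟨?_, ?_⟩⟩⟩
      · rw [QuadraticMap.polar_sub_right, QuadraticMap.polar_add_right, polar_smul_right', polar_smul_right', ho,
          polar_self']
        field_simp; ring
      · rw [QuadraticMap.polar_sub_right, QuadraticMap.polar_add_right, polar_smul_right', polar_smul_right',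
          QuadraticMap.polar_comm _ (J v) v, ho, polar_self']
        field_simp; ring
    have hJW' : ∀ x ∈ W', J x ∈ W' := by
      rintro x ⟨hx, hxp⟩
      obtain ⟨h1, h1'⟩ := (hPperp x).1 hxp
      refine ⟨hJW x hx, (hPperp _).2 ⟨?_, ?_⟩⟩
      · have := hskew v x; linear_combination this - h1'
      · have := hskew v (J x)
        rw [hJJ, polar_smul_right', h1] at this
        linear_combination this
    have hndW' : Nondeg (restr Q W') := fun y hy => by
      refine Subtype.ext ?_
      have hyW : (⟨(y : V), y.2.1⟩ : W) = 0 := hW _ fun x => by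
        obtain ⟨s, t, hm⟩ := hdec x x.2
        have hy' := hy ⟨_, hm⟩
        rw [polar_restr] at hy' ⊢
        obtain ⟨h1, h1'⟩ := (hPperp _).1 y.2.2
        simp only [QuadraticMap.polar_sub_right, QuadraticMap.polar_add_right, polar_smul_right',
          QuadraticMap.polar_comm _ (y : V) v, QuadraticMap.polar_comm _ (y : V) (J v), h1, h1'] at hy'
        simpa using hy'
      simpa using congrArg (fun z : W => (z : V)) hyW
    have hrank : finrank F W = finrank F W' + 2 := by
      have hli : LinearIndependent F ![v, J v] := by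
        rw [LinearIndependent.pair_iff]
        intro s t hst
        have e1 := congrArg (polar Q v) hst
        have e2 := congrArg (polar Q (J v)) hst
        simp only [QuadraticMap.polar_add_right, polar_smul_right', polar_self', ho,
          QuadraticMap.polar_comm _ (J v) v, QuadraticMap.polar_zero_right, mul_zero, add_zero, zero_add] at e1 e2
        exact ⟨(mul_eq_zero.1 e1).resolve_right (mul_ne_zero h2 hv),
          (mul_eq_zero.1 e2).resolve_right (mul_ne_zero h2 hJv0)⟩
      have hP2 : finrank F P = 2 := by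
        have hr : Set.range ![v, J v] = {v, J v} := by
          exact Matrix.range_cons_cons_empty _ _ _
        rw [hP, ← hr, finrank_span_eq_card hli, Fintype.card_fin]
      have hPW : P ≤ W := Submodule.span_le.2 (by
        rintro x (rfl | rfl)
        · exact hvW
        · exact hJW v hvW)
      have hsup : P ⊔ W' = W := le_antisymm (sup_le hPW inf_le_left) fun x hx => by
        obtain ⟨s, t, hm⟩ := hdec x hx
        rw [show x = (s • v + t • J v) + (x - (s • v + t • J v)) by abel]
        exact Submodule.add_mem_sup (add_mem (P.smul_mem _ (Submodule.subset_span (Or.inl rfl)))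
          (P.smul_mem _ (Submodule.subset_span (Or.inr rfl)))) hm
      have hinf : P ⊓ W' = ⊥ := by
        refine eq_bot_iff.2 fun x hx => (Submodule.mem_bot F).2 ?_
        obtain ⟨s, t, rfl⟩ := Submodule.mem_span_pair.1 hx.1
        obtain ⟨e1, e2⟩ := (hPperp _).1 hx.2.2
        simp only [QuadraticMap.polar_add_right, polar_smul_right', polar_self', ho,
          QuadraticMap.polar_comm _ (J v) v, mul_zero, add_zero, zero_add] at e1 e2
        rw [(mul_eq_zero.1 e1).resolve_right (mul_ne_zero h2 hv),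
          (mul_eq_zero.1 e2).resolve_right (mul_ne_zero h2 hJv0), zero_smul, zero_smul, add_zero]
      have := Submodule.finrank_sup_add_finrank_inf_eq P W'
      rw [hsup, hinf, hP2, finrank_bot] at this
      omega
    obtain ⟨w', j, hj, hw1, hw2, hws, hwd⟩ := ih (finrank F W') (by omega) W' rfl hJW' hndW'
    have hperpW' : ∀ y, (y ∈ P ∨ y ∈ perp Q W) → y ∈ perp Q W' := by
      intro y hy z hz
      rcases hy with hy | hy
      · rw [QuadraticMap.polar_comm]; exact hz.2 y hy
      · exact hy z hz.1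
    have hrefl : ∀ y, polar Q v y = 0 → polar Q (J v) y = 0 →
        ((rO Q g * rO Q v : O Q) : V ≃ₗ[F] V) y = y := fun y e1 e2 => by
      rw [Subgroup.coe_mul, mul_app, rO_app Q v, e1, mul_zero, zero_smul, sub_zero, rO_app, hg,
        QuadraticMap.polar_add_left, polar_smul_left', polar_smul_left', e1, e2]
      simp
    refine ⟨rO Q g * rO Q v * w', j + 1, by omega, fun x hx => ?_, fun y hy => ?_, ?_, ?_⟩
    · obtain ⟨s, t, hm⟩ := hdec x hx
      set y := x - (s • v + t • J v) with hy
      have hyJ := (hPperp _).1 (hJW' y hm).2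
      have hyv := (hPperp _).1 hm.2
      have hw'v : (w' : V ≃ₗ[F] V) v = v := hw2 v (hperpW' v (Or.inl (Submodule.subset_span (Or.inl rfl))))
      have hw'J : (w' : V ≃ₗ[F] V) (J v) = J v := hw2 _ (hperpW' _ (Or.inl (Submodule.subset_span (Or.inr rfl))))
      rw [show x = y + (s • v + t • J v) by rw [hy]; abel, Subgroup.coe_mul, mul_app]
      simp only [map_add, map_smul, hw1 y hm, hw'v, hw'J, hrefl y hyv.1 hyv.2, hrefl (J y) hyJ.1 hyJ.2]
      have e1 : ((rO Q g * rO Q v : O Q) : V ≃ₗ[F] V) v = ((a ^ 2 + δ * b ^ 2) / n) • v + (2 * a * b / n) • J v := by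
        rw [Subgroup.coe_mul, mul_app, rO_self hv, map_neg, rO_app, hQg]
        have hp : polar Q g v = 2 * a * Q v := by
          rw [hg, QuadraticMap.polar_add_left, polar_smul_left', polar_smul_left', QuadraticMap.polar_comm _ (J v) v,
            ho, polar_self']
          ring
        rw [hp, hg]
        match_scalars <;> field_simp <;> subst hab <;> ring
      have e2 : ((rO Q g * rO Q v : O Q) : V ≃ₗ[F] V) (J v)
          = ((a ^ 2 + δ * b ^ 2) / n) • J v + (2 * a * b / n) • J (J v) := by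
        rw [Subgroup.coe_mul, mul_app, rO_app Q v, ho, mul_zero, zero_smul, sub_zero, rO_app, hQg]
        have hp : polar Q g (J v) = -2 * δ * b * Q v := by
          rw [hg, QuadraticMap.polar_add_left, polar_smul_left', polar_smul_left', ho, polar_self', hQJ]
          ring
        rw [hp, hg, hJJ]
        match_scalars <;> field_simp <;> subst hab <;> ring
      rw [e1, e2]
      simp only [map_add, map_smul, hJJ]
      match_scalars <;> ring
    · have hw'y := hw2 y (hperpW' y (Or.inr hy))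
      rw [Subgroup.coe_mul, mul_app, hw'y]
      exact hrefl y (hy v hvW) (hy _ (hJW v hvW))
    · rw [map_mul, map_mul, spinor_rO hQ h2 hg0, spinor_rO hQ h2 hv, hws, hQg, sqSign_mul h2 hn0 hv,
        sqSign_of_not_isSquare hn, mul_assoc (-1 : ℤˣ), Int.units_mul_self, mul_one, pow_succ']
    · rw [map_mul, map_mul, detSign_rO hQ h2 hg0, detSign_rO hQ h2 hv, hwd]; rfl

/-- The commutant element with determinant non-square gives a turn on a split space. -/
theorem exists_turn_split (h : FF A r) {U C : Submodule F V} (hU : ∀ x ∈ U, (A : V ≃ₗ[F] V) x ∈ U)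
    (hC : ∀ x ∈ C, (A : V ≃ₗ[F] V) x ∈ C) (hcpl : IsCompl U C) (hUs : TotSing Q U) (hCs : TotSing Q C)
    (hirr : Irred ((op A).restrict hU)) {k : ℕ} (hk : finrank F V = 2 * k) (hU0 : U ≠ ⊥) :
    ∃ u : O Q, u * A = A * u ∧ detSign Q h.nondeg h.two u = 1 ∧ spinor Q h.nondeg h.two u = -1 := by
  have hQ := h.nondeg
  have hpU : ∀ x ∈ U, ∀ y ∈ U, polar Q x y = 0 := fun x hx y hy => by
    simp [polar, hUs _ (add_mem hx hy), hUs x hx, hUs y hy]
  have hpC : ∀ x ∈ C, ∀ y ∈ C, polar Q x y = 0 := fun x hx y hy => by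
    simp [polar, hCs _ (add_mem hx hy), hCs x hx, hCs y hy]
  have hsum := Submodule.finrank_add_eq_of_isCompl hcpl
  have hle := TotSing.two_mul_finrank_le hQ hUs
  have hle' := TotSing.two_mul_finrank_le hQ hCs
  have hUk : finrank F U = k := by omega
  have hCk : finrank F C = k := by omega
  let b : Basis (Fin k) F U := (Module.finBasisOfFinrankEq F U hUk)
  let pair : C →ₗ[F] (Fin k → F) := LinearMap.pi fun i => (Q.polarBilin (b i : V)).comp C.subtype
  have hpair : ∀ c i, pair c i = polar Q (b i : V) c := fun _ _ => rfl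
  have hpinj : Function.Injective pair := (injective_iff_map_eq_zero _).2 fun c hc => Subtype.ext (hQ _ fun y => by
    obtain ⟨u', hu', c', hc', rfl⟩ := Submodule.mem_sup.1 (hcpl.sup_eq_top ▸ Submodule.mem_top : y ∈ U ⊔ C)
    rw [QuadraticMap.polar_add_right, hpC _ c.2 _ hc', add_zero]
    have e : (⟨u', hu'⟩ : U) = ∑ i, b.repr ⟨u', hu'⟩ i • b i := (b.sum_repr _).symm
    have hz : ∀ i, polar Q (c : V) (b i : V) = 0 := fun i => by
      rw [QuadraticMap.polar_comm, ← hpair, hc]; rfl
    calc polar Q (c : V) u' = Q.polarBilin (c : V) ((⟨u', hu'⟩ : U) : V) := rfl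
      _ = 0 := by
        rw [e, Submodule.coe_sum, map_sum]
        exact Finset.sum_eq_zero fun i _ => by rw [Submodule.coe_smul, map_smul, Q.polarBilin_apply_apply, hz, smul_zero])
  let pe : C ≃ₗ[F] (Fin k → F) :=
    LinearEquiv.ofBijective pair ⟨hpinj, (LinearMap.injective_iff_surjective_of_finrank_eq_finrank (by
      rw [hCk, finrank_fintype_fun_eq_card, Fintype.card_fin])).1 hpinj⟩
  let E : (Fin k ⊕ Fin k → F) ≃ₗ[F] V :=
    ((LinearEquiv.sumArrowLequivProdArrow (Fin k) (Fin k) F F).trans (b.equivFun.symm.prodCongr pe.symm)).trans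
      (Submodule.prodEquivOfIsCompl U C hcpl)
  have hE : ∀ x, E x = (b.equivFun.symm (x ∘ Sum.inl) : V) + (pe.symm (x ∘ Sum.inr) : V) := fun x => rfl
  have hEQ : ∀ x, Q (E x) = formPlus F k x := fun x => by
    rw [hE, map_add_polar, hUs _ (SetLike.coe_mem _), hCs _ (SetLike.coe_mem _), zero_add, zero_add, formPlus_dot,
      Basis.equivFun_symm_apply, Submodule.coe_sum, ← Q.polarBilin_apply_apply, map_sum, LinearMap.sum_apply,
      dotProduct]
    refine Finset.sum_congr rfl fun i _ => ?_
    rw [Submodule.coe_smul, map_smul, LinearMap.smul_apply, Q.polarBilin_apply_apply, ← hpair, smul_eq_mul]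
    congr 1
    exact congrFun (pe.apply_symm_apply _) i
  obtain ⟨ν, hν⟩ := exists_not_isSquare h.two
  have : Nontrivial U := Submodule.nontrivial_iff_ne_bot.2 hU0
  obtain ⟨a, ha, hdeta⟩ := exists_det_eq hirr ν
  set M : Matrix (Fin k) (Fin k) F := LinearMap.toMatrix b b a
  have hM : M.det = ν := by rw [LinearMap.det_toMatrix, hdeta]
  let MG : GL (Fin k) F := GeneralLinearGroup.mkOfDetNeZero M (hM ▸ fun h0 => hν (h0 ▸ IsSquare.zero))
  set u : O Q := congrO E hEQ (levi k MG)
  have huU : ∀ x : U, (u : V ≃ₗ[F] V) x = (a x : V) := fun x => by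
    have hsx : E.symm (x : V) = Sum.elim (b.equivFun x) (0 : Fin k → F) := by
      rw [E.symm_apply_eq, hE, Sum.elim_comp_inl, Sum.elim_comp_inr, LinearEquiv.symm_apply_apply, map_zero,
        ZeroMemClass.coe_zero, add_zero]
    rw [congrO_apply, hsx, levi_app, hE, Sum.elim_comp_inl, Sum.elim_comp_inr, Sum.elim_comp_inl, Sum.elim_comp_inr,
      mulVec_zero, map_zero, ZeroMemClass.coe_zero, add_zero]
    congr 1
    rw [LinearEquiv.symm_apply_eq]
    exact (LinearMap.toMatrix_mulVec_repr b b a x)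
  have huC : ∀ x : C, (u : V ≃ₗ[F] V) x ∈ C := fun x => by
    have hsx : E.symm (x : V) = Sum.elim (0 : Fin k → F) (pe x) := by
      rw [E.symm_apply_eq, hE, Sum.elim_comp_inl, Sum.elim_comp_inr, LinearEquiv.symm_apply_apply, map_zero,
        ZeroMemClass.coe_zero, zero_add]
    rw [congrO_apply, hsx, levi_app, hE, Sum.elim_comp_inl, Sum.elim_comp_inl, mulVec_zero, map_zero,
      ZeroMemClass.coe_zero, zero_add]
    exact SetLike.coe_mem _
  have hAu : ∀ x : U, (u : V ≃ₗ[F] V) ((A : V ≃ₗ[F] V) x) = (A : V ≃ₗ[F] V) ((u : V ≃ₗ[F] V) x) := fun x => by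
    have h1 := congrArg (fun z : U => (z : V)) (mem_commutant.1 ha x)
    rw [huU x]
    calc (u : V ≃ₗ[F] V) ((A : V ≃ₗ[F] V) x) = (a ⟨_, hU _ x.2⟩ : V) := huU ⟨_, hU _ x.2⟩
      _ = _ := h1
  have hcomm : u * A = A * u := by
    refine O.ext_app fun z => ?_
    rw [Subgroup.coe_mul, Subgroup.coe_mul, mul_app, mul_app]
    obtain ⟨x, hx, y, hy, rfl⟩ := Submodule.mem_sup.1 (hcpl.sup_eq_top ▸ Submodule.mem_top : z ∈ U ⊔ C)
    simp only [map_add]
    rw [hAu ⟨x, hx⟩]
    congr 1
    refine sub_eq_zero.1 (hQ _ fun z' => ?_)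
    have hmem : (u : V ≃ₗ[F] V) ((A : V ≃ₗ[F] V) y) - (A : V ≃ₗ[F] V) ((u : V ≃ₗ[F] V) y) ∈ C :=
      sub_mem (huC ⟨_, hC y hy⟩) (hC _ (huC ⟨y, hy⟩))
    obtain ⟨u', hu', c', hc', rfl⟩ := Submodule.mem_sup.1 (hcpl.sup_eq_top ▸ Submodule.mem_top : z' ∈ U ⊔ C)
    rw [QuadraticMap.polar_add_right, hpC _ hmem _ hc', add_zero, QuadraticMap.polar_sub_left]
    -- `u' = u (A x') = A (u x')`
    obtain ⟨x', hx'⟩ : ∃ x' : U, (u : V ≃ₗ[F] V) ((A : V ≃ₗ[F] V) (x' : V)) = u' := by
      let f : U →ₗ[F] U := a ∘ₗ (op A).restrict hU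
      have hf : Function.Injective f := (injective_iff_map_eq_zero _).2 fun z hz => Subtype.ext (by
        have : (u : V ≃ₗ[F] V) ((A : V ≃ₗ[F] V) (z : V)) = 0 :=
          (huU ⟨_, hU _ z.2⟩).trans (congrArg Subtype.val hz)
        simpa using this)
      obtain ⟨z, hz⟩ := (LinearMap.injective_iff_surjective.1 hf) ⟨u', hu'⟩
      exact ⟨z, (huU ⟨_, hU _ z.2⟩).trans (congrArg Subtype.val hz)⟩
    have e2 : (A : V ≃ₗ[F] V) ((u : V ≃ₗ[F] V) (x' : V)) = u' := by rw [← hAu]; exact hx'
    conv_lhs => arg 1; rw [← hx', O.polar_app, O.polar_app]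
    rw [← e2, O.polar_app, O.polar_app, sub_self]
  obtain ⟨hs, hd⟩ := spinor_levi (k := k) h.two MG
  have hsp : (spinor Q hQ h.two).comp (congrO E hEQ).toMonoidHom = spinor _ (formPlus_nondeg F k) h.two :=
    hom_ext_rO (formPlus_nondeg F k) h.two fun v hv => by
      rw [MonoidHom.comp_apply, MulEquiv.coe_toMonoidHom, congrO_rO E hEQ,
        spinor_rO hQ h.two (by rwa [hEQ]), spinor_rO _ h.two hv, hEQ]
  have hdt : (detSign Q hQ h.two).comp (congrO E hEQ).toMonoidHom = detSign _ (formPlus_nondeg F k) h.two :=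
    hom_ext_rO (formPlus_nondeg F k) h.two fun v hv => by
      rw [MonoidHom.comp_apply, MulEquiv.coe_toMonoidHom, congrO_rO E hEQ,
        detSign_rO hQ h.two (by rwa [hEQ]), detSign_rO _ h.two hv]
  refine ⟨u, hcomm, (DFunLike.congr_fun hdt (levi k MG)).trans hd, (DFunLike.congr_fun hsp (levi k MG)).trans ?_⟩
  rw [hs]
  show sqSign M.det = -1
  rw [hM, sqSign_of_not_isSquare hν]

end FF

end Cfsg.Agent.H96.OrthClass
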