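import Mathlib
import Cfsg.Agent.H96.OrthClass.Turn
import Cfsg.Agent.Orthogonal.Count
import Cfsg.Agent.H58.OrthoField.GraphInvol

/-!
# The centraliser of a fixed-point-free isometry of odd prime order contains a special isometry of non-square spinor norm
-/

set_option autoImplicit false
set_option linter.unusedSectionVars false
set_option linter.unusedVariables false

namespace Cfsg.Agent.H96.OrthClass

open Matrix Module Cfsg.Agent.Orthogonal
open Cfsg.Agent.H52.OrthoRank (negSign negSign_plus negSign_minus)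
open QuadraticMap (polar)

universe u v

variable {F : Type u} [Field F] [Finite F] {V : Type v} [AddCommGroup V] [Module F V] [FiniteDimensional F V]
  {Q : QuadraticForm F V}

namespace FF

variable {A : O Q} {r : ℕ}

theorem negIso_spec (h : FF A r) {k : ℕ} (hk : finrank F V = 2 * k) :
    ((⟨LinearEquiv.neg F, fun x => QuadraticMap.map_neg Q x⟩ : O Q) * A = A * ⟨LinearEquiv.neg F, fun x => QuadraticMap.map_neg Q x⟩) ∧
      detSign Q h.nondeg h.two ⟨LinearEquiv.neg F, fun x => QuadraticMap.map_neg Q x⟩ = 1 := by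
  constructor
  · refine O.ext_app fun x => ?_
    rw [Subgroup.coe_mul, Subgroup.coe_mul, mul_app, mul_app]
    simp
  · rw [detSign_eq_one_iff h.nondeg h.two, show ((LinearEquiv.neg F : V ≃ₗ[F] V) : V →ₗ[F] V) = (-1 : F) • LinearMap.id from
      LinearMap.ext fun x => by simp, LinearMap.det_smul, LinearMap.det_id, mul_one, hk, pow_mul, neg_one_sq, one_pow]

/-- The irreducible case of odd half-dimension. -/
theorem exists_turn_odd (h : FF A r) (hirr : Irred (op A)) [Nontrivial V] {k : ℕ} (hk : finrank F V = 2 * k)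
    (hodd : Odd k) : ∃ u : O Q, u * A = A * u ∧ detSign Q h.nondeg h.two u = 1 ∧ spinor Q h.nondeg h.two u = -1 := by
  have hQ := h.nondeg
  have h2 := h.two
  have := Fintype.ofFinite F
  obtain ⟨ν, hν⟩ := exists_not_isSquare h2
  have hν0 : ν ≠ 0 := fun h0 => hν (h0 ▸ IsSquare.zero)
  obtain ⟨J, hJ, hJJ⟩ := exists_sq_eq hirr h2 hk ν
  have hJJ' : ∀ x, J (J x) = ν • x := fun x => by
    rw [← Module.End.mul_apply, hJJ, Module.algebraMap_end_apply]
  have hJA : ∀ x, J ((A : V ≃ₗ[F] V) x) = (A : V ≃ₗ[F] V) (J x) := mem_commutant.1 hJ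
  have hB := hQ.polarBilin
  set J' : Module.End F V := LinearMap.BilinForm.leftAdjointOfNondegenerate Q.polarBilin hB J with hJ'def
  have hadj : ∀ x y, polar Q (J' x) y = polar Q x (J y) := fun x y =>
    LinearMap.BilinForm.isAdjointPairLeftAdjointOfNondegenerate Q.polarBilin hB J x y
  have hJ' : J' ∈ commutant (op A) := mem_commutant.2 fun x => sub_eq_zero.1 (hQ _ fun y => by
    obtain ⟨y', rfl⟩ := (A : V ≃ₗ[F] V).surjective y
    show polar Q (J' ((A : V ≃ₗ[F] V) x) - (A : V ≃ₗ[F] V) (J' x)) ((A : V ≃ₗ[F] V) y') = 0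
    rw [QuadraticMap.polar_sub_left, hadj, hJA, O.polar_app, O.polar_app, hadj, sub_self])
  have hJ'J' : J' * J' = algebraMap F (Module.End F V) ν := LinearMap.ext fun x => sub_eq_zero.1 (hQ _ fun y => by
    rw [Module.End.mul_apply, Module.algebraMap_end_apply, QuadraticMap.polar_sub_left, hadj, hadj, hJJ',
      polar_smul_left', polar_smul_right', sub_self])
  have hprod : (J' - J) * (J' + J) = 0 := by
    rw [sub_mul, mul_add, mul_add, commutant_comm hirr hJ hJ', hJ'J', hJJ]
    abel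
  rcases (show J' - J = 0 ∨ J' + J = 0 by
    let _ : Field (commutant (op A)) := (commutant_isField hirr).toField
    rcases mul_eq_zero.1 (show (⟨J', hJ'⟩ - ⟨J, hJ⟩ : commutant (op A)) * (⟨J', hJ'⟩ + ⟨J, hJ⟩) = 0 from
      Subtype.ext hprod) with e | e
    · exact Or.inl (congrArg Subtype.val e)
    · exact Or.inr (congrArg Subtype.val e)) with e | e
  · -- a self-adjoint square root of a non-square is a similitude of the wrong determinant
    have hsa : ∀ x y, polar Q (J x) y = polar Q x (J y) := fun x y => by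
      rw [← hadj, sub_eq_zero.1 e]
    have hQJ : ∀ x, Q (J x) = ν * Q x := fun x => by
      have h1 := hsa x (J x)
      rw [hJJ', polar_self', polar_smul_right', polar_self'] at h1
      exact mul_left_cancel₀ h2 (by linear_combination h1)
    obtain ⟨k', hk', hdet⟩ := h.det_comm
    obtain rfl : k = k' := by omega
    have hd := hdet J ν hν0 hJ hQJ
    let b := Module.finBasisOfFinrankEq F V hk
    have hdM : (LinearMap.toMatrix b b J).det ≠ 0 := by rw [LinearMap.det_toMatrix, hd]; exact pow_ne_zero _ hν0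
    have hg : ∀ w, LinearMap.toMatrix b b J *ᵥ (LinearMap.toMatrix b b J *ᵥ w) = ν • w := fun w => by
      rw [mulVec_mulVec, ← LinearMap.toMatrix_mul, hJJ, LinearMap.toMatrix_algebraMap, Matrix.scalar_apply,
        ← Matrix.smul_one_eq_diagonal, smul_mulVec, one_mulVec]
    have hq := H58.OrthoField.quad_det (g := GeneralLinearGroup.mkOfDetNeZero _ hdM) hν hg
      (show Fintype.card (Fin (2 * k)) = 2 * k by simp)
    rw [show ((GeneralLinearGroup.mkOfDetNeZero _ hdM : GL (Fin (2 * k)) F) : Matrix (Fin (2 * k)) (Fin (2 * k)) F)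
      = LinearMap.toMatrix b b J from rfl, LinearMap.det_toMatrix, hd, hodd.neg_pow] at hq
    exact absurd (mul_eq_zero.1 (show (2 : F) * ν ^ k = 0 by linear_combination hq)) (not_or.2 ⟨h2, pow_ne_zero _ hν0⟩)
  · have hskew : ∀ x y, polar Q (J x) y = -polar Q x (J y) := fun x y => by
      rw [← hadj, eq_neg_of_add_eq_zero_left e, LinearMap.neg_apply, QuadraticMap.polar_neg_left, neg_neg]
    obtain ⟨a, b, n, hn, hab⟩ := exists_nonsquare_value h2 hν0
    obtain ⟨w, j, hj, hw, -, hws, hwd⟩ := exists_skew_turn hQ h2 hν0 hJJ' hskew hn hab _ ⊤ rfl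
      (fun x _ => Submodule.mem_top) (fun x hx => Subtype.ext (hQ _ fun y => by
        have := hx ⟨y, Submodule.mem_top⟩
        rwa [polar_restr] at this))
    rw [finrank_top, hk] at hj
    obtain rfl : j = k := by omega
    refine ⟨w, O.ext_app fun x => ?_, hwd, by rw [hws, hodd.neg_one_pow]⟩
    rw [Subgroup.coe_mul, Subgroup.coe_mul, mul_app, mul_app, hw _ Submodule.mem_top, hw _ Submodule.mem_top, map_add,
      map_smul, map_smul, hJA]

/-- In the irreducible case of even half-dimension the discriminant is a non-square. -/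
theorem negSign_of_irred_even (h : FF A r) (hirr : Irred (op A)) [Nontrivial V] {k : ℕ} (hk : finrank F V = 2 * k)
    (hev : Even k) : negSign Q h.nondeg h.two = -1 := by
  have hQ := h.nondeg
  have h2 := h.two
  have := Fintype.ofFinite F
  have := Fact.mk h.prime
  obtain ⟨k, rfl⟩ : ∃ l, k = l + 1 := ⟨k - 1, by have := Module.finrank_pos (R := F) (M := V); omega⟩
  rcases hQ.classify_even hk with ⟨E, hE⟩ | ⟨ζ, E, hζ, hE⟩
  swap
  · have hab : ∀ z₁ z₂ : F, z₁ ^ 2 + 1 * z₁ * z₂ + ζ * z₂ ^ 2 = 0 → z₁ = 0 ∧ z₂ = 0 := by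
      intro z₁ z₂ hz
      rcases eq_or_ne z₂ 0 with rfl | hz2
      · exact ⟨by simpa using hz, rfl⟩
      · refine absurd ?_ (hζ (z₁ / z₂))
        field_simp
        linear_combination hz
    rw [H55.negSign_congr (formMinus_nondeg k hab) hQ h2 E hE, negSign_minus (F := F) (m := k) h2 hab,
      hev.neg_one_pow, sqSign_of_isSquare IsSquare.one]
  exfalso
  -- the orbits on singular vectors have length `r`
  have hfree : Nat.card {x : V // Q x = 0} % r = 1 := by
    have hP : IsPGroup r (Subgroup.zpowers A) := IsPGroup.of_card (n := 1) (by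
      rw [pow_one, Nat.card_zpowers]
      refine ((Nat.dvd_prime h.prime).1 (orderOf_dvd_of_pow_eq_one h.pow)).resolve_left fun h1 => ?_
      rw [orderOf_eq_one_iff] at h1
      obtain ⟨x, hx⟩ := exists_ne (0 : V)
      exact hx (h.fix x (by rw [h1]; rfl)))
    have hmem : ∀ (g : Subgroup.zpowers A) (x : {x : V // Q x = 0}),
        Q (((g : O Q) : V ≃ₗ[F] V) (x : V)) = 0 := fun g x => by rw [O.map_app]; exact x.2
    let act : MulAction (Subgroup.zpowers A) {x : V // Q x = 0} :=
      { smul := fun g x => ⟨((g : O Q) : V ≃ₗ[F] V) x.1, hmem g x⟩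
        one_smul := fun x => Subtype.ext rfl
        mul_smul := fun g g' x => Subtype.ext rfl }
    have : Finite V := Module.finite_of_finite F
    have := hP.card_modEq_card_fixedPoints {x : V // Q x = 0}
    have h1 : Nat.card (MulAction.fixedPoints (Subgroup.zpowers A) {x : V // Q x = 0}) = 1 := by
      rw [Nat.card_eq_one_iff_unique]
      refine ⟨⟨fun x y => ?_⟩, ⟨⟨⟨0, map_zero Q⟩, fun g => Subtype.ext (map_zero _)⟩⟩⟩
      have hz : ∀ z : MulAction.fixedPoints (Subgroup.zpowers A) {x : V // Q x = 0}, (z.1 : V) = 0 := fun z =>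
        h.fix _ (congrArg Subtype.val (z.2 ⟨A, Subgroup.mem_zpowers A⟩))
      exact Subtype.ext (Subtype.ext ((hz x).trans (hz y).symm))
    rw [h1] at this
    have := this.symm
    rw [Nat.ModEq, Nat.mod_eq_of_lt h.prime.one_lt] at this
    exact this.symm
  have hcount := card_zero_frame (formPlus_frame F (k + 1)) (formPlus_aniso F (k + 1))
  rw [formPlus_kernel, finrank_bot, add_zero, add_zero] at hcount
  rw [Nat.card_congr (E.toEquiv.subtypeEquiv (p := fun x => formPlus F (k + 1) x = 0) (q := fun y => Q y = 0)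
    fun x => by rw [LinearEquiv.coe_toEquiv, hE])] at hcount
  -- `q ^ (2k) ≡ 1`
  obtain ⟨x0, hx0⟩ := exists_ne (0 : V)
  have hTr : op A ^ r = 1 := LinearMap.ext fun x => by rw [op_pow, h.pow]; rfl
  have hC := finite_commutant hirr
  have hmul : ∀ e, e % r = 1 % r → op A ^ e = op A := by
    intro e he
    rw [← Nat.div_add_mod e r, pow_add, pow_mul, hTr, one_pow, one_mul, he, Nat.mod_eq_of_lt h.prime.one_lt, pow_one]
  have hq2 : ((Nat.card F : ZMod r)) ^ (2 * (k + 1)) = 1 := by
    let _ : Field (commutant (op A)) := (commutant_isField hirr).toField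
    have := Fintype.ofFinite (commutant (op A))
    set t : commutant (op A) := ⟨op A, mem_commutant.2 fun _ => rfl⟩
    have ht : t ^ r = 1 := Subtype.ext (by rw [SubmonoidClass.coe_pow]; exact hTr)
    have ht1 : t ≠ 1 := fun e => hx0 (h.fix x0 (by
      have := congrArg (fun c : commutant (op A) => (c : Module.End F V) x0) e
      exact this))
    have ht0 : t ≠ 0 := fun e => by rw [e, zero_pow h.prime.ne_zero] at ht; exact zero_ne_one ht
    have hord : orderOf t = r := orderOf_eq_prime ht ht1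
    have hdvd : r ∣ Fintype.card (commutant (op A)) - 1 := by
      rw [← hord]
      exact orderOf_dvd_of_pow_eq_one (FiniteField.pow_card_sub_one_eq_one t ht0)
    have hfr : finrank F (commutant (op A)) = 2 * (k + 1) :=
      (LinearEquiv.ofBijective (evalC (op A) x0) (evalC_bijective hirr hx0)).finrank_eq.trans hk
    rw [Module.card_eq_pow_finrank (K := F), hfr, ← Nat.card_eq_fintype_card] at hdvd
    have h1 : 1 ≤ Nat.card F ^ (2 * (k + 1)) := Nat.one_le_pow _ _ Nat.card_pos
    have h2' := (ZMod.natCast_eq_zero_iff _ _).2 hdvd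
    rw [Nat.cast_sub h1, Nat.cast_pow, Nat.cast_one] at h2'
    exact sub_eq_zero.1 h2'
  have hZ : ((Nat.card {x : V // Q x = 0} : ℕ) : ZMod r) = 1 := by
    rw [← ZMod.natCast_mod, hfree, Nat.cast_one]
  have hcast := congrArg (fun z : ℕ => (z : ZMod r)) hcount
  simp only [Nat.cast_add, Nat.cast_mul, Nat.cast_pow, hZ, mul_one, hq2] at hcast
  have hfac : ((Nat.card F : ZMod r) ^ (k + 1) - 1) * ((Nat.card F : ZMod r) - 1) = 0 := by
    linear_combination -1 * hcast
  have hqk : (Nat.card F : ZMod r) ^ (k + 1) = 1 := by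
    rcases mul_eq_zero.1 hfac with e | e
    · exact sub_eq_zero.1 e
    · rw [sub_eq_zero.1 e, one_pow]
  have hmod : Nat.card F ^ (k + 1) % r = 1 % r :=
    (ZMod.natCast_eq_natCast_iff' _ _ r).1 (by rw [Nat.cast_pow, hqk, Nat.cast_one])
  have := finrank_le_of_pow hirr (Nat.succ_ne_zero k) (hmul _ hmod)
  omega

omit A r in
/-- Some minimal element below. -/
theorem exists_min (P : Submodule F V → Prop) {U : Submodule F V} (hU : P U) :
    ∃ W, P W ∧ W ≤ U ∧ ∀ W', P W' → W' ≤ W → W' = W := by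
  obtain ⟨W, hWU, hW⟩ := exists_minimal_le_of_wellFoundedLT P U hU
  exact ⟨W, hW.prop, hWU, fun W' h' hle => hW.eq_of_le h' hle⟩

/-- The turn, by induction on the dimension. -/
theorem exists_turn_ff : ∀ (d : ℕ) {V : Type v} [AddCommGroup V] [Module F V] [FiniteDimensional F V]
    {Q : QuadraticForm F V} {A : O Q} {r : ℕ} (h : FF A r), finrank F V = d → 0 < d →
    ∃ u : O Q, u * A = A * u ∧ detSign Q h.nondeg h.two u = 1 ∧ spinor Q h.nondeg h.two u = -1 := by
  intro d
  induction d using Nat.strong_induction_on with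
  | _ d ih =>
  intro V _ _ _ Q A r h hd hpos
  have hQ := h.nondeg
  have h2 := h.two
  have : Nontrivial V := Module.nontrivial_of_finrank_pos (R := F) (by omega)
  by_cases hW : ∃ W : Submodule F V, (∀ x ∈ W, (A : V ≃ₗ[F] V) x ∈ W) ∧ W ≠ ⊥ ∧ W ≠ ⊤ ∧ Nondeg (restr Q W)
  · obtain ⟨W, hinv, hb, ht, hnd⟩ := hW
    have hlt : finrank F W < d := hd ▸ Submodule.finrank_lt ht
    have hpos' : 0 < finrank F W := by
      rw [pos_iff_ne_zero]; exact fun e => hb (Submodule.finrank_eq_zero.1 e)
    have hA' : FF (restrictO A hinv) r :=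
      ⟨hnd, h2, h.prime, h.odd, h.ne, O.ext_app fun x => Subtype.ext (by
        rw [H55.pow_restrictO_app, h.pow]; rfl),
        fun x hx => Subtype.ext (h.fix _ (by rw [← restrictO_app A hinv]; exact congrArg Subtype.val hx))⟩
    obtain ⟨u, hcu, hdu, hsu⟩ := ih _ hlt hA' rfl hpos'
    refine ⟨extendO hQ hnd u, O.ext_app fun z => ?_, (H55.spinor_extendO hQ h2 hnd u).2.trans hdu,
      (H55.spinor_extendO hQ h2 hnd u).1.trans hsu⟩
    obtain ⟨x, hx, y, hy, rfl⟩ := Submodule.mem_sup.1
      ((hQ.isCompl_perp hnd).sup_eq_top ▸ Submodule.mem_top : z ∈ W ⊔ perp Q W)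
    rw [Subgroup.coe_mul, Subgroup.coe_mul, mul_app, mul_app, map_add, map_add, map_add, map_add,
      extendO_app hQ hnd u ⟨x, hx⟩, extendO_app hQ hnd u ⟨_, hinv x hx⟩,
      extendO_app_perp hQ hnd u hy, extendO_app_perp hQ hnd u (map_mem_perp A hinv hy)]
    congr 1
    have := congrArg (fun g : O (restr Q W) => ((g : W ≃ₗ[F] W) ⟨x, hx⟩ : V)) hcu
    simp only [Subgroup.coe_mul, mul_app] at this
    exact this
  push Not at hW
  obtain ⟨k, hk, -⟩ := h.det_comm
  rcases Int.units_eq_one_or (negSign Q hQ h2) with h0 | h0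
  swap
  · exact ⟨_, (h.negIso_spec hk).1, (h.negIso_spec hk).2, h0⟩
  by_cases hred : Irred (op A)
  · rcases Nat.even_or_odd k with hev | hodd
    · rw [h.negSign_of_irred_even hred hk hev] at h0
      exact absurd h0 (by decide)
    · exact h.exists_turn_odd hred hk hodd
  simp only [Irred, not_forall, not_or] at hred
  obtain ⟨U₀, hU₀, hU₀b, hU₀t⟩ := hred
  let P : Submodule F V → Prop := fun W => (∀ x ∈ W, (A : V ≃ₗ[F] V) x ∈ W) ∧ W ≠ ⊥
  obtain ⟨U, ⟨hU, hUb⟩, hUle, hUmin⟩ := exists_min P (U := U₀) ⟨hU₀, hU₀b⟩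
  -- invariant subspaces without proper invariant subspace are totally singular
  have hts : ∀ W : Submodule F V, P W → W ≠ ⊤ → (∀ W', P W' → W' ≤ W → W' = W) → TotSing Q W := by
    intro W hW1 hWt hWmin
    have hne : W ⊓ perp Q W ≠ ⊥ := fun e =>
      hW W hW1.1 hW1.2 hWt ((nondeg_restr_iff W).2 e)
    have hle : W ≤ perp Q W := by
      have := hWmin (W ⊓ perp Q W) ⟨fun x hx => ⟨hW1.1 x hx.1, map_mem_perp A hW1.1 hx.2⟩, hne⟩ inf_le_left
      exact this.ge.trans inf_le_right
    intro x hx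
    have hp : polar Q x x = 0 := hle hx x hx
    rw [polar_self'] at hp
    exact (mul_eq_zero.1 hp).resolve_left h2
  have hUt : U ≠ ⊤ := fun e => hU₀t (top_le_iff.1 (e ▸ hUle))
  have hUs : TotSing Q U := hts U ⟨hU, hUb⟩ hUt hUmin
  have hpU : ∀ x ∈ U, ∀ y ∈ U, polar Q x y = 0 := fun x hx y hy => by
    simp [polar, hUs _ (add_mem hx hy), hUs x hx, hUs y hy]
  -- an invariant complement of `U⊥`
  have hperpinv : ∀ x ∈ perp Q U, (A : V ≃ₗ[F] V) x ∈ perp Q U := fun x hx => map_mem_perp A hU hx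
  have hss := H54.isSemisimple_of_pow_eq_one (op A) h.ne (LinearMap.ext fun x => by rw [op_pow, h.pow]; rfl)
  obtain ⟨C₀, hC₀, hC₀c⟩ := Module.End.isSemisimple_iff.1 hss (perp Q U) hperpinv
  have hC₀b : C₀ ≠ ⊥ := by
    intro e
    rw [e] at hC₀c
    have htop : perp Q U = ⊤ := eq_top_of_isCompl_bot hC₀c
    refine hUb (eq_bot_iff.2 fun x hx => (Submodule.mem_bot F).2 (hQ x fun y => ?_))
    exact (htop ▸ Submodule.mem_top : y ∈ perp Q U) x hx
  obtain ⟨C, ⟨hC, hCb⟩, hCle, hCmin⟩ := exists_min P (U := C₀) ⟨fun x hx => hC₀ hx, hC₀b⟩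
  have hdisj : C ⊓ perp Q U = ⊥ :=
    eq_bot_iff.2 ((inf_le_inf_right _ hCle).trans (by rw [inf_comm, hC₀c.disjoint.eq_bot]))
  have hCt : C ≠ ⊤ := by
    intro e
    rw [e, top_inf_eq] at hdisj
    exact hUb (eq_bot_iff.2 fun x hx => hdisj ▸ (fun y hy => hpU y hy x hx : x ∈ perp Q U))
  have hCs : TotSing Q C := hts C ⟨hC, hCb⟩ hCt hCmin
  have hUC : U ⊓ C = ⊥ := eq_bot_iff.2 fun x hx => hdisj ▸ ⟨hx.2, fun y hy => hpU y hy x hx.1⟩
  have hnd : Nondeg (restr Q (U ⊔ C)) := by
    refine (nondeg_restr_iff _).2 (eq_bot_iff.2 fun z hz => (Submodule.mem_bot F).2 ?_)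
    obtain ⟨hz1, hz2⟩ := hz
    obtain ⟨x, hx, c, hc, rfl⟩ := Submodule.mem_sup.1 hz1
    have hc0 : c = 0 := (Submodule.mem_bot F).1 (hdisj ▸ ⟨hc, fun y hy => by
      have := hz2 y (Submodule.mem_sup_left hy)
      rwa [QuadraticMap.polar_add_right, hpU y hy x hx, zero_add] at this⟩)
    rw [hc0, add_zero] at hz2 ⊢
    by_contra hx0
    have hall := hUmin (U ⊓ perp Q C) ⟨fun y hy => ⟨hU y hy.1, map_mem_perp A hC hy.2⟩,
      Submodule.ne_bot_iff _ |>.2 ⟨x, ⟨hx, fun y hy => hz2 y (Submodule.mem_sup_right hy)⟩, hx0⟩⟩ inf_le_left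
    refine hCb (eq_bot_iff.2 fun y hy => hdisj ▸ ⟨hy, fun w hw => ?_⟩)
    have : w ∈ perp Q C := (hall.ge hw).2
    rw [QuadraticMap.polar_comm]
    exact this y hy
  have hsup : U ⊔ C = ⊤ := by
    by_contra hne
    exact hW (U ⊔ C) (fun x hx => by
      obtain ⟨a, ha, c, hc, rfl⟩ := Submodule.mem_sup.1 hx
      rw [map_add]; exact Submodule.add_mem_sup (hU a ha) (hC c hc))
      (fun e => hUb (eq_bot_iff.2 (e ▸ le_sup_left))) hne hnd
  refine h.exists_turn_split hU hC ⟨disjoint_iff.2 hUC, codisjoint_iff.2 hsup⟩ hUs hCs ?_ hk hUb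
  intro W hW'
  by_cases hWb : W = ⊥
  · exact Or.inl hWb
  refine Or.inr ?_
  have := hUmin (W.map U.subtype) ⟨by
    rintro _ ⟨w, hw, rfl⟩
    exact ⟨_, hW' w hw, rfl⟩, fun e => hWb (Submodule.map_injective_of_injective U.injective_subtype
      (e.trans (Submodule.map_bot _).symm))⟩ (Submodule.map_subtype_le U W)
  exact Submodule.map_injective_of_injective U.injective_subtype (this.trans (Submodule.map_subtype_top U).symm)

end FF

end Cfsg.Agent.H96.OrthClass
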