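import Mathlib
import Cfsg.Agent.H58.OrthoWitness
import Cfsg.Agent.H96.OrthClass.TurnMain
import Cfsg.Agent.Orthogonal.SemisimpleClasses

/-!
# Semisimple elements of odd prime order: the classes under `T`, `PSO` and `Inndiag` coincide
-/

set_option autoImplicit false
set_option linter.unusedSectionVars false
set_option linter.unusedVariables false

namespace Cfsg.Agent.H96.OrthClass

open Matrix Module Cfsg.Agent.Orthogonal Cfsg.Agent.H58.OrthoAut Cfsg.Agent.H58.OrthoKlein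
  Cfsg.Agent.H58.OrthoOuter
open Cfsg.Agent.H58.OrthoOuter.Setup (ds_toSim mu_toSim psoAut_mem inn_le_pso scalar_simAut toSim_conj)
open QuadraticMap (polar)

universe u

variable {F : Type u} [Field F] [Fintype F] {ι : Type} [Fintype ι] [DecidableEq ι] {Q : QuadraticForm F (ι → F)}
  {m : ℕ}

theorem toO_comm_iff {a b : Cfsg.isometryGroup F ⇑Q} : toO Q a * toO Q b = toO Q b * toO Q a ↔ a * b = b * a := by
  rw [← map_mul, ← map_mul, (toO Q).injective.eq_iff]

/-- Centraliser data of an isometry of odd prime order prime to `p`. -/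
theorem cent_spec (H : Setup Q m) (s : Cfsg.isometryGroup F ⇑Q) {r : ℕ} (hr : r.Prime) (hodd : Odd r)
    (hrF : (r : F) ≠ 0) (hs : s ^ r = 1) :
    (∃ c, c * s = s * c ∧ H.dt c = 1 ∧ H.th c = -1) ∧
    ((∃ c, c * s = s * c ∧ H.dt c = -1) ∨
      (∀ g : sim Q, g * toSim Q s = toSim Q s * g → H.ds g = 1)) := by
  have hQ := H.nondeg
  have h2 := H.two
  set A : O Q := toO Q s with hA
  have hAr : A ^ r = 1 := by rw [hA, ← map_pow, hs, map_one]
  set T : Module.End F (ι → F) := op A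
  have hT : T ^ r = 1 := LinearMap.ext fun x => by rw [op_pow, hAr]; rfl
  have hc := H54.InvForm.isCompl_ker_range hrF T hT 1
  rw [map_one] at hc
  set K := LinearMap.ker (T - 1)
  set R := LinearMap.range (T - 1)
  have hK : ∀ x, x ∈ K ↔ (A : (ι → F) ≃ₗ[F] (ι → F)) x = x := fun x => by
    rw [LinearMap.mem_ker, LinearMap.sub_apply, Module.End.one_apply, sub_eq_zero]; rfl
  have hR : ∀ x ∈ R, (A : (ι → F) ≃ₗ[F] (ι → F)) x ∈ R := by
    rintro _ ⟨z, rfl⟩
    exact ⟨T z, by simp [T, map_sub]⟩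
  have horth : ∀ x ∈ K, ∀ y ∈ R, polar Q x y = 0 := by
    rintro x hx _ ⟨z, rfl⟩
    rw [LinearMap.sub_apply, Module.End.one_apply, QuadraticMap.polar_sub_right]
    conv_lhs => arg 1; rw [← (hK x).1 hx]
    exact sub_eq_zero.2 (O.polar_app A x z)
  have hnd : Nondeg (restr Q R) ∧ Nondeg (restr Q K) := by
    constructor <;> intro x hx <;> refine Subtype.ext (hQ _ fun y => ?_) <;>
      obtain ⟨k, hk, r', hr', rfl⟩ := Submodule.mem_sup.1 (hc.sup_eq_top ▸ Submodule.mem_top : y ∈ K ⊔ R)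
    · rw [QuadraticMap.polar_add_right, QuadraticMap.polar_comm _ (x : ι → F) k, horth k hk _ x.2, zero_add]
      simpa [polar_restr] using hx ⟨r', hr'⟩
    · rw [QuadraticMap.polar_add_right, horth _ x.2 r' hr', add_zero]
      simpa [polar_restr] using hx ⟨k, hk⟩
  refine ⟨?_, ?_⟩
  · by_cases hR0 : R = ⊥
    · obtain ⟨t, ht1, ht2⟩ := H.exists_t
      have hs1 : s = 1 := (toO Q).injective (by
        rw [map_one, ← hA]
        refine O.ext_app fun x => ?_
        have : x ∈ K := by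
          have := hc.sup_eq_top
          rw [hR0, sup_bot_eq] at this
          rw [this]; trivial
        exact (hK x).1 this)
      exact ⟨t, by rw [hs1, mul_one, one_mul], ht1, ht2⟩
    · have hA' : FF (restrictO A hR) r :=
        ⟨hnd.1, h2, hr, hodd, hrF, O.ext_app fun x => Subtype.ext (by rw [H55.pow_restrictO_app, hAr]; rfl),
          fun x hx => Subtype.ext (Submodule.disjoint_def.1 hc.disjoint _ ((hK _).2 (by
            rw [← restrictO_app A hR]; exact congrArg Subtype.val hx)) x.2)⟩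
      obtain ⟨u, hcu, hdu, hsu⟩ := FF.exists_turn_ff _ hA' rfl
        (pos_iff_ne_zero.2 fun e => hR0 (Submodule.finrank_eq_zero.1 e))
      refine ⟨(toO Q).symm (extendO hQ hnd.1 u), toO_comm_iff.1 ?_, ?_, ?_⟩
      · rw [MulEquiv.apply_symm_apply, ← hA]
        refine O.ext_app fun z => ?_
        obtain ⟨y, hy, x, hx, rfl⟩ := Submodule.mem_sup.1 (hc.sup_eq_top ▸ Submodule.mem_top : z ∈ K ⊔ R)
        have hy' : y ∈ perp Q R := fun w hw => by rw [QuadraticMap.polar_comm]; exact horth y hy w hw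
        rw [Subgroup.coe_mul, Subgroup.coe_mul, mul_app, mul_app, map_add, map_add, map_add, map_add,
          (hK y).1 hy, extendO_app hQ hnd.1 u ⟨x, hx⟩, extendO_app hQ hnd.1 u ⟨_, hR x hx⟩,
          extendO_app_perp hQ hnd.1 u hy', (hK y).1 hy]
        congr 1
        have := congrArg (fun g : O (restr Q R) => ((g : R ≃ₗ[F] R) ⟨x, hx⟩ : ι → F)) hcu
        simp only [Subgroup.coe_mul, mul_app] at this
        exact this
      · show detSign Q hQ h2 (toO Q _) = 1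
        rw [MulEquiv.apply_symm_apply, (H55.spinor_extendO hQ h2 hnd.1 u).2, hdu]
      · show spinor Q hQ h2 (toO Q _) = -1
        rw [MulEquiv.apply_symm_apply, (H55.spinor_extendO hQ h2 hnd.1 u).1, hsu]
  · by_cases hK0 : K = ⊥
    · refine Or.inr fun g hg => ?_
      have hA' : FF A r := ⟨hQ, h2, hr, hodd, hrF, hAr, fun x hx => by
        have : x ∈ K := (hK x).2 hx
        rwa [hK0, Submodule.mem_bot] at this⟩
      obtain ⟨k, hk, hdet⟩ := hA'.det_comm
      rw [finrank_fintype_fun_eq_card, H.card] at hk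
      obtain rfl : m = k := by omega
      rw [H.ds_eq_one_iff, ← LinearMap.det_toLin']
      refine hdet _ _ (mu g).ne_zero (mem_commutant.2 fun x => ?_) (fun x => ?_)
      · have h1 := congrArg (fun z : sim Q => ((z : GL ι F) : Matrix ι ι F) *ᵥ x) hg
        simp only [Subgroup.coe_mul, Units.val_mul, ← mulVec_mulVec] at h1
        exact h1
      · rw [Matrix.toLin'_apply, mu_spec]
    · obtain ⟨x0, hx0, hx0'⟩ := Submodule.exists_mem_ne_zero_of_ne_bot hK0
      obtain ⟨v, hv⟩ := exists_anisotropic hnd.2 (x := (⟨x0, hx0⟩ : K)) (fun h => hx0' (congrArg Subtype.val h))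
      refine Or.inl ⟨(toO Q).symm (rO Q (v : ι → F)), toO_comm_iff.1 ?_, ?_⟩
      · rw [MulEquiv.apply_symm_apply, ← hA]
        have := conj_rO A (v : ι → F)
        rw [(hK _).1 v.2, mul_inv_eq_iff_eq_mul] at this
        exact this.symm
      · show detSign Q hQ h2 (toO Q _) = -1
        rw [MulEquiv.apply_symm_apply, detSign_rO hQ h2 (show Q (v : ι → F) ≠ 0 from hv)]

/-- Fusion of conjugates under similitudes. -/
theorem fuse (H : Setup Q m) (s : Cfsg.isometryGroup F ⇑Q) {r : ℕ} (hr : r.Prime) (hodd : Odd r)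
    (hrF : (r : F) ≠ 0) (hs : s ^ r = 1) (g : sim Q) :
    ∃ a : Cfsg.isometryGroup F ⇑Q, conjIso g s = a * s * a⁻¹ ∧ (H.ds g = 1 → a ∈ Cfsg.Omega F ⇑Q) := by
  set A : O Q := toO Q s with hA
  have hAr : A ^ r = 1 := by rw [hA, ← map_pow, hs, map_one]
  let e : (ι → F) ≃ₗ[F] (ι → F) :=
    Matrix.toLinearEquiv' (g : GL ι F).1 (g : GL ι F).invertible
  have he : ∀ x, e x = ((g : GL ι F) : Matrix ι ι F) *ᵥ x := fun x => rfl
  obtain ⟨a0, ha0⟩ := isConj_iff.1 (isConj_of_similar H.nondeg A (toO Q (conjIso g s)) hrF hodd hAr e (fun x => by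
    rw [hA, he, he, toO_apply, toO_apply]
    show _ = ((((g : GL ι F) * s.1 * (g : GL ι F)⁻¹ : GL ι F)) : Matrix ι ι F) *ᵥ _
    rw [mulVec_mulVec, mulVec_mulVec, ← Units.val_mul, ← Units.val_mul, inv_mul_cancel_right]))
  obtain ⟨a, rfl⟩ := (toO Q).surjective a0
  have ha : conjIso g s = a * s * a⁻¹ := (toO Q).injective (by rw [map_mul, map_mul, map_inv, ← hA, ha0])
  obtain ⟨⟨c, hcs, hc1, hc2⟩, hcases⟩ := cent_spec H s hr hodd hrF hs
  -- adjust by elements of the centraliser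
  have hadj : ∀ d, d * s = s * d → a * s * a⁻¹ = a * d * s * (a * d)⁻¹ := fun d hd => by
    rw [mul_assoc a d s, hd]; group
  by_cases hds : H.ds g = 1
  swap
  · exact ⟨a, ha, fun h => absurd h hds⟩
  obtain ⟨b, hb, hbd⟩ : ∃ b, conjIso g s = b * s * b⁻¹ ∧ H.dt b = 1 := by
    rcases Int.units_eq_one_or (H.dt a) with h1 | h1
    · exact ⟨a, ha, h1⟩
    rcases hcases with ⟨d, hd, hd1⟩ | hall
    · exact ⟨a * d, ha.trans (hadj d hd), by rw [map_mul, h1, hd1]; rfl⟩
    · exfalso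
      have hcomm : ((toSim Q a)⁻¹ * g) * toSim Q s = toSim Q s * ((toSim Q a)⁻¹ * g) := by
        have h2 : toSim Q (conjIso g s) = toSim Q (a * s * a⁻¹) := by rw [ha]
        rw [toSim_conj, map_mul, map_mul, map_inv, mul_inv_eq_iff_eq_mul] at h2
        rw [mul_assoc, h2]; group
      have := hall _ hcomm
      rw [map_mul, map_inv, ds_toSim, hds, h1] at this
      exact absurd this (by decide)
  rcases Int.units_eq_one_or (H.th b) with h1 | h1
  · exact ⟨b, hb, fun _ => (H.mem_omega b).2 ⟨hbd, h1⟩⟩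
  · refine ⟨b * c, hb.trans ?_, fun _ => (H.mem_omega _).2 ⟨by rw [map_mul, hbd, hc1, one_mul],
      by rw [map_mul, h1, hc2]; rfl⟩⟩
    rw [mul_assoc b c s, hcs]; group

/-- A similitude inducing an automorphism of odd order `r` may be taken to be an isometry of order dividing `r`. -/
theorem exists_iso_lift (H : Setup Q m) {g : sim Q} {r : ℕ} (hodd : Odd r) (hx : simAut Q g ^ r = 1) :
    ∃ s : Cfsg.isometryGroup F ⇑Q, s ^ r = 1 ∧ simAut Q (toSim Q s) = simAut Q g := by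
  have hv := H.value
  obtain ⟨c, hc⟩ := exists_scalar_of_simAut_eq_one H.nondeg H.five (g := g ^ r) (by rw [map_pow, hx])
  have hμ : mu g ^ r = c ^ 2 := by
    have h1 : mu (g ^ r) = mu g ^ r := map_pow (⟨⟨mu, mu_one hv⟩, mu_mul hv⟩ : sim Q →* Fˣ) g r
    rw [← h1]
    refine mu_unique hv fun v => ?_
    rw [hc, GeneralLinearGroup.coe_scalar, Units.val_pow_eq_pow_val, Matrix.scalar_apply,
      ← Matrix.smul_one_eq_diagonal, smul_mulVec, one_mulVec, qmap_smul]
  obtain ⟨j, hj⟩ := hodd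
  set e : Fˣ := c⁻¹ * mu g ^ j
  have he2 : e ^ 2 * mu g = 1 := by
    calc e ^ 2 * mu g = (c⁻¹) ^ 2 * mu g ^ r := by rw [hj, mul_pow, ← pow_mul, mul_comm j 2, pow_succ (mu g) (2 * j), mul_assoc]
      _ = 1 := by rw [hμ, ← mul_pow, inv_mul_cancel, one_pow]
  have her : e ^ r * c = 1 := by
    rw [mul_pow, ← pow_mul, mul_comm j r, pow_mul, hμ, ← pow_mul, hj, pow_succ, inv_pow]
    group
  let g' : sim Q := ⟨GeneralLinearGroup.scalar ι e, scalar_mem_sim e⟩ * g
  have hiso : (g' : GL ι F) ∈ Cfsg.isometryGroup F ⇑Q := (mem_isometryGroup_iff _ _).2 fun v => by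
    rw [Subgroup.coe_mul, Units.val_mul, ← mulVec_mulVec, GeneralLinearGroup.coe_scalar, Matrix.scalar_apply,
      ← Matrix.smul_one_eq_diagonal, smul_mulVec, one_mulVec, qmap_smul, mu_spec, ← mul_assoc]
    have h1 := congrArg (fun u : Fˣ => (u : F)) he2
    simp only [Units.val_mul, Units.val_pow_eq_pow_val, Units.val_one] at h1
    rw [h1, one_mul]
  refine ⟨⟨_, hiso⟩, Subtype.ext ?_, ?_⟩
  · show ((GeneralLinearGroup.scalar ι e) * (g : GL ι F)) ^ r = 1
    rw [(show Commute (GeneralLinearGroup.scalar ι e) (g : GL ι F) from GeneralLinearGroup.scalar_commute e _).mul_pow,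
      ← map_pow, ← Subgroup.coe_pow, hc, ← map_mul, her, map_one]
  · show simAut Q g' = simAut Q g
    rw [map_mul, scalar_simAut, one_mul]

/-- The statement in terms of conjugacy relations. -/
theorem classes_eq (H : Setup Q m) (x : MulAut (Cfsg.POmega F ⇑Q)) (hx : x ∈ Cfsg.pgoAut F ⇑Q) {r : ℕ} (hr : r.Prime)
    (hodd : Odd r) (hrF : (r : F) ≠ 0) (hxr : orderOf x = r) :
    (∀ y, (Cfsg.IsConjUnder (Cfsg.Inn (Cfsg.POmega F ⇑Q)) x y ↔
        Cfsg.IsConjUnder (H.ds.ker.map (simAut Q)) x y) ∧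
      (Cfsg.IsConjUnder (Cfsg.psoAut F ⇑Q) x y ↔ Cfsg.IsConjUnder (H.ds.ker.map (simAut Q)) x y)) ∧
    (∀ y, Cfsg.IsConjUnder (Cfsg.poAut F ⇑Q) x y ↔ Cfsg.IsConjUnder (Cfsg.pgoAut F ⇑Q) x y) := by
  rw [pgoAut_eq] at hx
  obtain ⟨g, rfl⟩ := hx
  obtain ⟨s, hs, e⟩ := exists_iso_lift H hodd (by rw [← hxr, pow_orderOf_eq_one])
  rw [← e]
  have hle : Cfsg.psoAut F ⇑Q ≤ H.ds.ker.map (simAut Q) := fun x hx => by
    obtain ⟨s, hs, rfl⟩ := (psoAut_mem H).1 hx
    exact ⟨_, MonoidHom.mem_ker.2 (by rw [ds_toSim, hs]), rfl⟩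
  have key : ∀ k : sim Q, ∃ a : Cfsg.isometryGroup F ⇑Q,
      simAut Q k * simAut Q (toSim Q s) * (simAut Q k)⁻¹ =
        simAut Q (toSim Q a) * simAut Q (toSim Q s) * (simAut Q (toSim Q a))⁻¹ ∧
      (H.ds k = 1 → simAut Q (toSim Q a) ∈ Cfsg.Inn (Cfsg.POmega F ⇑Q)) := fun k => by
    obtain ⟨a, ha, ha'⟩ := fuse H s hr hodd hrF hs k
    refine ⟨a, ?_, fun h => by rw [inn_eq]; exact ⟨a, ha' h, rfl⟩⟩
    rw [← map_inv, ← map_mul, ← map_mul, ← toSim_conj, ha, map_mul, map_mul, map_inv, map_mul, map_mul, map_inv]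
  refine ⟨fun y => ?_, fun y => ?_⟩
  · have main : Cfsg.IsConjUnder (H.ds.ker.map (simAut Q)) (simAut Q (toSim Q s)) y →
        Cfsg.IsConjUnder (Cfsg.Inn (Cfsg.POmega F ⇑Q)) (simAut Q (toSim Q s)) y := by
      rintro ⟨_, ⟨k, hk, rfl⟩, rfl⟩
      obtain ⟨a, ha, ha'⟩ := key k
      exact ⟨_, ha' hk, ha⟩
    refine ⟨⟨?_, main⟩, ⟨?_, fun h => ?_⟩⟩
    · rintro ⟨h, hh, e'⟩; exact ⟨h, hle (inn_le_pso H hh), e'⟩
    · rintro ⟨h, hh, e'⟩; exact ⟨h, hle hh, e'⟩
    · obtain ⟨h, hh, e'⟩ := main h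
      exact ⟨h, inn_le_pso H hh, e'⟩
  · rw [pgoAut_eq]
    constructor
    · rintro ⟨h, hh, e'⟩
      refine ⟨h, (show Cfsg.poAut F ⇑Q ≤ (simAut Q).range from (Subgroup.closure_le _).2 ?_) hh, e'⟩
      rintro β ⟨k, hk, hβ⟩
      exact ⟨⟨k, isometry_le_sim hk⟩, (eq_simAut (g := ⟨k, isometry_le_sim hk⟩) hβ).symm⟩
    · rintro ⟨_, ⟨k, rfl⟩, rfl⟩
      obtain ⟨a, ha, -⟩ := key k
      exact ⟨_, Subgroup.subset_closure ⟨a.1, a.2, isInduced_simAut (toSim Q a)⟩, ha⟩

end Cfsg.Agent.H96.OrthClass
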