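import Mathlib
import Cfsg.Agent.H58.OrthoWitness
import Cfsg.Agent.H58.OrthoField.GraphInvol
import Cfsg.Agent.H58.Twist

/-!
# Splitting of the classes of involutory graph automorphisms of even-dimensional orthogonal groups
-/

set_option autoImplicit false
set_option linter.unusedSectionVars false
set_option linter.unusedVariables false

namespace Cfsg.Agent.H96.OrthClass

open Matrix Module Cfsg.Agent.Orthogonal Cfsg.Agent.H58 Cfsg.Agent.H58.OrthoAut Cfsg.Agent.H58.OrthoKlein
  Cfsg.Agent.H58.OrthoOuter Cfsg.Agent.H58.OrthoField Cfsg.Agent.H58.FormSim Cfsg.Agent.H58.FormRoot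
open Cfsg.Agent.H52.OrthoRank (negSign)
open Cfsg.Agent.H58.OrthoOuter.Setup (ds_toSim out_mem out_sq out_t_central out_t_ne_one psoAut_mem inn_le_pso inndiag_four inndiag_two inn_iff_of_sq relIndex_pso scalar_simAut)
open QuadraticMap (polar)

universe u

variable {F : Type u} [Field F] [Fintype F] {ι : Type} [Fintype ι] [DecidableEq ι] {Q : QuadraticForm F (ι → F)}
  {m : ℕ}

/-- `u` commutes with the matrix `G`. -/
def Comm (G : Matrix ι ι F) (u : O Q) : Prop :=
  ∀ x : ι → F, G *ᵥ ((u : (ι → F) ≃ₗ[F] (ι → F)) x) = (u : (ι → F) ≃ₗ[F] (ι → F)) (G *ᵥ x)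

theorem Comm.mul {G : Matrix ι ι F} {u v : O Q} (hu : Comm G u) (hv : Comm G v) : Comm G (u * v) := fun x => by
  rw [Subgroup.coe_mul, mul_app, hu, hv, mul_app]

/-- A reflection in an eigenvector commutes with an isometry. -/
theorem comm_rO {G : Matrix ι ι F} (hiso : ∀ x y, polar Q (G *ᵥ x) (G *ᵥ y) = polar Q x y) {v : ι → F} {e : F}
    (he : e * e = 1) (hv : G *ᵥ v = e • v) : Comm G (rO Q v) := fun x => by
  have h : e * polar Q v (G *ᵥ x) = polar Q v x := by rw [← hiso v x, hv, polar_smul_left']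
  rw [rO_app, rO_app, mulVec_sub, mulVec_smul, hv, smul_smul]
  congr 2
  rw [← h]
  linear_combination ((Q v)⁻¹ * polar Q v (G *ᵥ x)) * he

/-- The half turn of a plane invariant under a self-adjoint map. -/
theorem comm_halfTurn {G : Matrix ι ι F} (h2 : (2 : F) ≠ 0)
    (hadj : ∀ x y, polar Q (G *ᵥ x) y = polar Q x (G *ᵥ y)) {v w : ι → F} (hv : Q v ≠ 0) (hw : Q w ≠ 0)
    (ho : polar Q v w = 0) {α β γ δ : F} (hGv : G *ᵥ v = α • v + β • w) (hGw : G *ᵥ w = γ • v + δ • w) :
    Comm G (rO Q v * rO Q w) := by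
  have happ : ∀ x, ((rO Q v * rO Q w : O Q) : (ι → F) ≃ₗ[F] (ι → F)) x
      = x - ((Q v)⁻¹ * polar Q v x) • v - ((Q w)⁻¹ * polar Q w x) • w := fun x => by
    simp only [Subgroup.coe_mul, mul_app, rO_app, QuadraticMap.polar_sub_right, polar_smul_right', ho, mul_zero,
      sub_zero]
    abel
  have hvw : polar Q (G *ᵥ v) w = polar Q v (G *ᵥ w) := hadj v w
  rw [hGv, hGw, QuadraticMap.polar_add_left, QuadraticMap.polar_add_right, polar_smul_left', polar_smul_left',
    polar_smul_right', polar_smul_right', ho, mul_zero, zero_add, mul_zero, add_zero, polar_self', polar_self'] at hvw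
  have hbc : β * Q w = γ * Q v := mul_left_cancel₀ h2 (by linear_combination hvw)
  intro x
  have h1 : polar Q v (G *ᵥ x) = α * polar Q v x + β * polar Q w x := by
    rw [← hadj, hGv, QuadraticMap.polar_add_left, polar_smul_left', polar_smul_left']
  have h2' : polar Q w (G *ᵥ x) = γ * polar Q v x + δ * polar Q w x := by
    rw [← hadj, hGw, QuadraticMap.polar_add_left, polar_smul_left', polar_smul_left']
  rw [happ, happ, mulVec_sub, mulVec_sub, mulVec_smul, mulVec_smul, hGv, hGw, h1, h2']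
  match_scalars
  · ring
  · field_simp
    linear_combination (polar Q w x) * hbc
  · field_simp
    linear_combination -(polar Q v x) * hbc

/-- `t` has determinant one, non-square spinor norm and commutes with `g`. -/
def Turn (H : Setup Q m) (g : sim Q) (t : Cfsg.isometryGroup F ⇑Q) : Prop :=
  H.dt t = 1 ∧ H.th t = -1 ∧ toSim Q t * g = g * toSim Q t

theorem turn_of (H : Setup Q m) {g : sim Q} {u : O Q} (hd : detSign Q H.nondeg H.two u = 1)
    (hs : spinor Q H.nondeg H.two u = -1) (hc : Comm (g.1 : Matrix ι ι F) u) : Turn H g ((toO Q).symm u) := by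
  refine ⟨?_, ?_, Subtype.ext (Units.ext (Matrix.ext_iff_mulVec.2 fun x => ?_))⟩
  · show detSign Q H.nondeg H.two (toO Q _) = 1
    rw [MulEquiv.apply_symm_apply, hd]
  · show spinor Q H.nondeg H.two (toO Q _) = -1
    rw [MulEquiv.apply_symm_apply, hs]
  · rw [Subgroup.coe_mul, Subgroup.coe_mul, toSim_coe, Units.val_mul, Units.val_mul, ← mulVec_mulVec, ← mulVec_mulVec,
      toO_symm_apply, toO_symm_apply, hc]

theorem exists_turn_invol (H : Setup Q m) (hm : 4 ≤ m) (g : sim Q) (hg : g.1 * g.1 = 1)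
    (hQg : ∀ v, Q ((g.1 : Matrix ι ι F) *ᵥ v) = Q v) : ∃ t, Turn H g t := by
  have h2 := H.two
  have hiso : ∀ x y, polar Q ((g.1 : Matrix ι ι F) *ᵥ x) ((g.1 : Matrix ι ι F) *ᵥ y) = polar Q x y := fun x y => by
    simp only [polar, ← mulVec_add, hQg]
  have hdim := eig_dim (g := g.1) h2 hg
  rw [H.card] at hdim
  obtain ⟨e, he, hrk⟩ : ∃ e : F, e * e = 1 ∧ 2 ≤ finrank F (eig g.1 e) := by
    by_cases h : 2 ≤ finrank F (eig g.1 (1 : F))
    · exact ⟨1, one_mul 1, h⟩
    · exact ⟨-1, neg_sq_one, by omega⟩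
  have hW : Nondeg (restr Q (eig g.1 e)) := fun x hx => Subtype.ext (H.nondeg _ fun y => by
    have h := hx (eigProj h2 hg he y)
    rw [polar_restr, coe_eigProj, QuadraticMap.polar_add_right, polar_smul_right', polar_smul_right'] at h
    have h' : e * polar Q (x : ι → F) ((g.1 : Matrix ι ι F) *ᵥ y) = polar Q (x : ι → F) y := by
      rw [← hiso (x : ι → F) y, mem_eig.1 x.2, polar_smul_left']
    field_simp at h
    have h'' : (2 : F) * polar Q (x : ι → F) y = 0 := by linear_combination h - h'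
    exact (mul_eq_zero.1 h'').resolve_left h2)
  obtain ⟨ν, hν⟩ := exists_not_isSquare h2
  obtain ⟨a, ha⟩ := hW.exists_value hrk 1
  obtain ⟨b, hb⟩ := hW.exists_value hrk ν
  rw [restr_apply] at ha hb
  have ha0 : Q (a : ι → F) ≠ 0 := by rw [ha]; exact one_ne_zero
  have hb0 : Q (b : ι → F) ≠ 0 := by rw [hb]; exact fun h => hν (h ▸ IsSquare.zero)
  refine ⟨_, turn_of H (u := rO Q (a : ι → F) * rO Q (b : ι → F)) ?_ ?_
    ((comm_rO hiso he (mem_eig.1 a.2)).mul (comm_rO hiso he (mem_eig.1 b.2)))⟩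
  · rw [map_mul, detSign_rO H.nondeg h2 ha0, detSign_rO H.nondeg h2 hb0]; rfl
  · rw [map_mul, spinor_rO H.nondeg h2 ha0, spinor_rO H.nondeg h2 hb0, ha, hb, sqSign_of_isSquare IsSquare.one,
      sqSign_of_not_isSquare hν, one_mul]

theorem exists_turn_quad (H : Setup Q m) (hm : 4 ≤ m) (g : sim Q) {c : Fˣ} (hc : ¬ IsSquare (c : F))
    (hgg : ∀ w, (g.1 : Matrix ι ι F) *ᵥ ((g.1 : Matrix ι ι F) *ᵥ w) = (c : F) • w)
    (hQg : ∀ v, Q ((g.1 : Matrix ι ι F) *ᵥ v) = (c : F) * Q v) : ∃ t, Turn H g t := by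
  have h2 := H.two
  set G : Matrix ι ι F := (g.1 : Matrix ι ι F)
  have hadj : ∀ v w, polar Q (G *ᵥ v) w = polar Q v (G *ᵥ w) := by
    intro v w
    have h : polar Q (G *ᵥ v) (G *ᵥ (G *ᵥ w)) = (c : F) * polar Q v (G *ᵥ w) := by
      simp only [polar, ← mulVec_add, hQg]; ring
    rw [hgg, polar_smul_right'] at h
    exact mul_left_cancel₀ c.ne_zero h
  obtain ⟨K, iK, iFK, B, hBn, -, -, hind⟩ := exists_quadBlock (Q := Q) hc hgg H.card hadj
  -- every element of `K` is a value of the block form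
  let QK : QuadraticForm K (Fin B.n → K) := (Matrix.toBilin' B.H).toQuadraticMap
  have hQK : ∀ z, QK z = bf B.H z z := fun z => Matrix.toBilin'_apply' _ z z
  have hQKp : ∀ z w, polar QK z w = 2 * bf B.H z w := fun z w => by
    show polar (fun x => Matrix.toBilin' B.H x x) z w = _
    simp only [polar, map_add, LinearMap.add_apply, Matrix.toBilin'_apply']
    have := bf_comm B.symm z w
    simp only [bf] at this ⊢
    linear_combination -this
  have hKnd : Nondeg QK := fun z hz => by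
    by_contra hz0
    refine B.det_ne H.nondeg (Matrix.exists_mulVec_eq_zero_iff.1 ⟨z, hz0, funext fun i => ?_⟩)
    have := hz (Pi.single i 1)
    rw [hQKp, bf_comm B.symm] at this
    rcases mul_eq_zero.1 this with h | h
    · exact absurd h (B.two_ne h2)
    · simpa [bf, single_dotProduct] using h
  have hval : ∀ k : K, ∃ z, bf B.H z z = k := fun k => by
    obtain ⟨z, hz⟩ := hKnd.exists_value (by simp only [finrank_fintype_fun_eq_card, Fintype.card_fin]; omega) k
    exact ⟨z, by rw [← hQK]; exact hz⟩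
  -- the pairs `(polar v v, polar v (g v))`
  have hlsmul : ∀ (s : F) (k : K), B.l (B.e s * k) = s * B.l k := fun s k => by
    obtain ⟨z, rfl⟩ := hval k
    have e1 := B.l_polar (B.e s • z) (B.E z)
    rw [B.P_E, bf_smul_left, B.E_smul, polar_smul_left', B.l_polar, B.P_E] at e1
    exact e1.symm
  let Ψ : F × F → F × F := fun p => (B.l (B.e p.1 + B.e p.2 * B.θ), B.l (B.θ * (B.e p.1 + B.e p.2 * B.θ)))
  have hΨ : Function.Injective Ψ := by
    intro p p' h
    simp only [Ψ, Prod.mk.injEq] at h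
    set k := (B.e p.1 + B.e p.2 * B.θ) - (B.e p'.1 + B.e p'.2 * B.θ) with hk
    have h0 : k = 0 := by
      refine B.l_nondeg k fun a => ?_
      obtain ⟨s, t, rfl⟩ := B.gen a
      rw [add_mul, map_add, mul_assoc, hlsmul, hlsmul, hk, mul_sub, map_sub, map_sub, h.1, h.2]
      ring
    have h1 : B.e (p.1 - p'.1) + B.e (p.2 - p'.2) * B.θ = 0 := by rw [map_sub, map_sub, ← h0, hk]; ring
    have hp2 : p.2 = p'.2 := by
      by_contra hne
      refine hind (-(p.1 - p'.1) / (p.2 - p'.2)) ?_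
      rw [map_div₀, eq_div_iff ((map_ne_zero B.e).2 (sub_ne_zero.2 hne)), map_neg]
      linear_combination h1
    rw [hp2, sub_self, map_zero, zero_mul, add_zero, map_eq_zero, sub_eq_zero] at h1
    exact Prod.ext h1 hp2
  have hpair : ∀ x y : F, ∃ v, polar Q v v = x ∧ polar Q v (G *ᵥ v) = y := by
    intro x y
    obtain ⟨⟨s, t⟩, h⟩ := (Finite.injective_iff_surjective.1 hΨ) (x, y)
    simp only [Ψ, Prod.mk.injEq] at h
    obtain ⟨z, hz⟩ := hval (B.e s + B.e t * B.θ)
    refine ⟨B.E z, ?_, ?_⟩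
    · rw [B.l_polar, B.P_E, hz, h.1]
    · rw [B.g_E, B.l_polar, B.P_E, bf_smul_right, hz, h.2]
  -- half turns of the planes spanned by `v, g v`
  have hturn : ∀ v, polar Q v v ≠ 0 → (c : F) * polar Q v v ^ 2 - polar Q v (G *ᵥ v) ^ 2 ≠ 0 →
      ∃ u : O Q, Comm G u ∧ detSign Q H.nondeg h2 u = 1 ∧
        spinor Q H.nondeg h2 u = sqSign ((c : F) * polar Q v v ^ 2 - polar Q v (G *ᵥ v) ^ 2) := by
    intro v hv hD
    rw [polar_self'] at hv hD ⊢
    have hv' : Q v ≠ 0 := fun h => hv (by rw [h, mul_zero])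
    set B0 := polar Q v (G *ᵥ v)
    set d := B0 / (2 * Q v)
    have h4 : (4 : F) ≠ 0 := by rw [show (4 : F) = 2 * 2 by norm_num]; exact mul_ne_zero h2 h2
    have hw : Q (G *ᵥ v + (-d) • v) = ((c : F) * (2 * Q v) ^ 2 - B0 ^ 2) / (4 * Q v) := by
      rw [map_add_polar, qmap_smul, hQg, polar_smul_right', QuadraticMap.polar_comm]
      simp only [d]
      field_simp
      ring
    have hw0 : Q (G *ᵥ v + (-d) • v) ≠ 0 := by rw [hw]; exact div_ne_zero hD (mul_ne_zero h4 hv')
    have ho : polar Q v (G *ᵥ v + (-d) • v) = 0 := by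
      rw [QuadraticMap.polar_add_right, polar_smul_right', polar_self']
      simp only [d]
      field_simp
      ring
    refine ⟨_, comm_halfTurn h2 hadj hv' hw0 ho (α := d) (β := 1) (γ := (c : F) - d * d) (δ := -d) ?_ ?_, ?_, ?_⟩
    · rw [one_smul, add_comm (G *ᵥ v), ← add_assoc, neg_smul, add_neg_cancel, zero_add]
    · rw [mulVec_add, mulVec_smul, hgg]
      match_scalars <;> ring
    · rw [map_mul, detSign_rO H.nondeg h2 hv', detSign_rO H.nondeg h2 hw0]; rfl
    · rw [map_mul, spinor_rO H.nondeg h2 hv', spinor_rO H.nondeg h2 hw0, ← sqSign_mul h2 hv' hw0, hw]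
      have e : (c : F) * (2 * Q v) ^ 2 - B0 ^ 2
          = (2 * 2) * (Q v * (((c : F) * (2 * Q v) ^ 2 - B0 ^ 2) / (4 * Q v))) := by
        field_simp
        ring
      conv_rhs => rw [e, sqSign_mul h2 (mul_ne_zero h2 h2) (mul_ne_zero hv' (hw ▸ hw0)),
        sqSign_of_isSquare ⟨2, rfl⟩, one_mul]
  -- two classes
  obtain ⟨v₀, hv₀, hv₀'⟩ := hpair 1 0
  obtain ⟨u₀, hu₀, hd₀, hs₀⟩ := hturn v₀ (by rw [hv₀]; exact one_ne_zero)
    (by rw [hv₀, hv₀']; simpa using c.ne_zero)
  rw [hv₀, hv₀', show (c : F) * 1 ^ 2 - 0 ^ 2 = c by ring, sqSign_of_not_isSquare hc] at hs₀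
  exact ⟨_, turn_of H hd₀ hs₀ hu₀⟩

/-- The two kinds of involutory graph automorphisms: a scalar multiple of an isometric involution, or a similitude
with square a non-square scalar. -/
theorem graph_cases (H : Setup Q m) {g : sim Q} (hds : H.ds g = -1) (hord : orderOf (simAut Q g) = 2) :
    (∃ g' : sim Q, simAut Q g' = simAut Q g ∧ H.ds g' = -1 ∧ g'.1 * g'.1 = 1 ∧
      ∀ v, Q ((g'.1 : Matrix ι ι F) *ᵥ v) = Q v) ∨
    (∃ c : Fˣ, ¬ IsSquare (c : F) ∧ (∀ w, (g.1 : Matrix ι ι F) *ᵥ ((g.1 : Matrix ι ι F) *ᵥ w) = (c : F) • w) ∧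
      (∀ v, Q ((g.1 : Matrix ι ι F) *ᵥ v) = (c : F) * Q v) ∧ Odd m) := by
  have hv := H.value
  obtain ⟨c, hg⟩ : ∃ c : Fˣ, g.1 * g.1 = GeneralLinearGroup.scalar ι c := by
    refine exists_scalar_of_simAut_eq_one H.nondeg H.five (g := g * g) ?_
    rw [map_mul, ← pow_two, ← hord, pow_orderOf_eq_one]
  have hgg : ∀ w, (g.1 : Matrix ι ι F) *ᵥ ((g.1 : Matrix ι ι F) *ᵥ w) = (c : F) • w := fun w => by
    rw [mulVec_mulVec, ← Units.val_mul, hg, GeneralLinearGroup.coe_scalar, Matrix.scalar_apply,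
      ← Matrix.smul_one_eq_diagonal, smul_mulVec, one_mulVec]
  have hne : ∀ h : sim Q, H.ds h = -1 → ((h.1 : Matrix ι ι F).det ≠ (mu h : F) ^ m) := fun h hh e => by
    rw [(H.ds_eq_one_iff h).2 e] at hh
    exact absurd hh (by decide)
  by_cases hc : IsSquare (c : F)
  · obtain ⟨l, hl⟩ := hc
    have hl0 : l ≠ 0 := fun h0 => c.ne_zero (by rw [hl, h0, mul_zero])
    set g' : sim Q := ⟨GeneralLinearGroup.scalar ι (Units.mk0 l hl0)⁻¹, scalar_mem_sim _⟩ * g with hg'
    have hx : simAut Q g' = simAut Q g := by rw [hg', map_mul, scalar_simAut, one_mul]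
    have hsc1 : H.ds ⟨GeneralLinearGroup.scalar ι (Units.mk0 l hl0)⁻¹, scalar_mem_sim _⟩ = 1 :=
      (H.sg_ds_of_inn (by rw [scalar_simAut]; exact one_mem _)).2
    have hds' : H.ds g' = -1 := by rw [hg', map_mul, hsc1, one_mul, hds]
    have hsq : g'.1 * g'.1 = 1 := by
      show GeneralLinearGroup.scalar ι _ * g.1 * (GeneralLinearGroup.scalar ι _ * g.1) = 1
      rw [mul_assoc, ← mul_assoc g.1, ← (GeneralLinearGroup.scalar_commute _ g.1), mul_assoc, hg, ← map_mul,
        ← map_mul, ← map_one (GeneralLinearGroup.scalar ι (R := F))]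
      congr 1
      refine Units.ext ?_
      simp only [Units.val_mul, Units.val_inv_eq_inv_val, Units.val_mk0, Units.val_one, hl]
      field_simp
    have hmu2 : mu g' * mu g' = 1 := by
      rw [← mu_mul hv]
      refine mu_unique hv fun v => ?_
      rw [Subgroup.coe_mul, hsq, Units.val_one, one_mulVec, Units.val_one, one_mul]
    rcases mul_self_eq_one_iff.1 (show (mu g' : F) * mu g' = 1 by rw [← Units.val_mul, hmu2, Units.val_one]) with e | e
    · exact Or.inl ⟨g', hx, hds', hsq, fun v => by rw [mu_spec, e, one_mul]⟩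
    · refine absurd ?_ (hne g' hds')
      have hts : ∀ s : F, s * s = 1 → TotSing Q (eig g'.1 s) := fun s hs v hv => by
        have h := mu_spec g' v
        rw [mem_eig.1 hv, qmap_smul, pow_two, hs, one_mul, e, neg_one_mul] at h
        exact (mul_eq_zero.1 (show (2 : F) * Q v = 0 by linear_combination h)).resolve_left H.two
      have h1 := TotSing.two_mul_finrank_le H.nondeg (hts 1 (one_mul 1))
      have h1' := TotSing.two_mul_finrank_le H.nondeg (hts (-1) neg_sq_one)
      rw [finrank_fintype_fun_eq_card, H.card] at h1 h1'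
      have hsum := eig_dim H.two hsq
      rw [H.card] at hsum
      rw [det_invol H.two hsq, show finrank F (eig g'.1 (-1 : F)) = m by omega, e]
  · have hmu2 : mu g * mu g = c * c := by
      rw [← mu_mul hv]
      refine mu_unique hv fun v => ?_
      rw [Subgroup.coe_mul, hg, GeneralLinearGroup.coe_scalar, Matrix.scalar_apply, ← Matrix.smul_one_eq_diagonal,
        smul_mulVec, one_mulVec, qmap_smul, Units.val_mul, pow_two]
    rcases mul_self_eq_mul_self_iff.1 (show (mu g : F) * mu g = c * c by rw [← Units.val_mul, hmu2, Units.val_mul]) with e | e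
    · refine Or.inr ⟨c, hc, hgg, (fun v => by rw [mu_spec, e]), Nat.not_even_iff_odd.1 fun hev => ?_⟩
      refine absurd ?_ (hne g hds)
      rw [quad_det hc hgg H.card, e, hev.neg_pow]
    · refine absurd ?_ (hne g hds)
      rw [quad_det hc hgg H.card, e]

theorem exists_turn (H : Setup Q m) (hm : 4 ≤ m) {g : sim Q} (hds : H.ds g = -1)
    (hord : orderOf (simAut Q g) = 2) :
    ∃ g' : sim Q, simAut Q g' = simAut Q g ∧ ∃ t, Turn H g' t := by
  rcases graph_cases H hds hord with ⟨g', hx, -, hsq, hQ⟩ | ⟨c, hc, hgg, hQ, -⟩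
  · exact ⟨g', hx, exists_turn_invol H hm g' hsq hQ⟩
  · exact ⟨g, rfl, exists_turn_quad H hm g hc hgg hQ⟩

/-- For even `m` and non-square discriminant a similitude of non-square multiplier commutes with no involutory graph
automorphism. -/
theorem not_commute_even (H : Setup Q m) (hev : Even m) {g h : sim Q} (hds : H.ds g = -1)
    (hord : orderOf (simAut Q g) = 2) (hh : H.sg h = -1) : ¬ Commute (simAut Q h) (simAut Q g) := by
  intro hcomm
  rcases graph_cases H hds hord with ⟨g', hx, hds', hsq, hQ⟩ | ⟨c, -, -, -, hodd⟩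
  swap
  · exact absurd hev (Nat.not_even_iff_odd.2 hodd)
  rw [← hx] at hcomm
  let s : Cfsg.isometryGroup F ⇑Q := ⟨g'.1, (mem_isometryGroup_iff _ _).2 hQ⟩
  have hsg : toSim Q s = g' := Subtype.ext rfl
  have hdts : H.dt s = -1 := by rw [← ds_toSim, hsg]; exact hds'
  obtain ⟨k, hk⟩ := exists_scalar_of_simAut_eq_one H.nondeg H.five (g := h * g' * h⁻¹ * g'⁻¹) (by
    rw [map_mul, map_mul, map_mul, map_inv, map_inv, hcomm.eq, mul_inv_cancel_right, mul_inv_cancel])
  rw [Subgroup.coe_mul, Subgroup.coe_mul, Subgroup.coe_mul, Subgroup.coe_inv, Subgroup.coe_inv,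
    mul_inv_eq_iff_eq_mul] at hk
  -- the scalar is a sign
  have hQk : ∀ v, Q ((((GeneralLinearGroup.scalar ι k) : GL ι F) : Matrix ι ι F) *ᵥ v) = Q v := fun v => by
    have h1 := (mem_isometryGroup_iff _ _).1 (conjIso h s * s⁻¹).2 v
    rwa [show ((conjIso h s * s⁻¹ : Cfsg.isometryGroup F ⇑Q).1 : GL ι F) = GeneralLinearGroup.scalar ι k from
      mul_inv_eq_iff_eq_mul.2 hk] at h1
  obtain ⟨v0, hv0⟩ := H.value
  have hk2 : (k : F) ^ 2 = 1 := by
    have h1 := hQk v0
    rw [GeneralLinearGroup.coe_scalar, Matrix.scalar_apply, ← Matrix.smul_one_eq_diagonal, smul_mulVec, one_mulVec,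
      qmap_smul] at h1
    exact mul_right_cancel₀ hv0 (h1.trans (one_mul _).symm)
  rcases sq_eq_one_iff.1 hk2 with e | e
  · -- commuting: compare spinor norms
    have hfix : conjIso h s = s := Subtype.ext (by
      show h.1 * g'.1 * h.1⁻¹ = g'.1
      rw [hk, show k = 1 from Units.ext e, map_one, one_mul])
    have h1 := H.th_conj h s
    rw [hfix, hh, if_neg (by decide), hdts] at h1
    rcases Int.units_eq_one_or (H.th s) with e' | e' <;> rw [e'] at h1 <;> exact absurd h1 (by decide)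
  · -- anti-commuting: both eigenspaces have dimension `m`
    have hanti : ∀ w, (h.1 : Matrix ι ι F) *ᵥ ((g'.1 : Matrix ι ι F) *ᵥ w)
        = (-1 : F) • ((g'.1 : Matrix ι ι F) *ᵥ ((h.1 : Matrix ι ι F) *ᵥ w)) := fun w => by
      have h1 : h.1 * g'.1 = GeneralLinearGroup.scalar ι k * (g'.1 * h.1) := by
        rw [← mul_assoc, ← hk, inv_mul_cancel_right]
      rw [mulVec_mulVec, ← Units.val_mul, h1, Units.val_mul, GeneralLinearGroup.coe_scalar, e, Matrix.scalar_apply,
        ← Matrix.smul_one_eq_diagonal, smul_mul_assoc, one_mul, smul_mulVec, Units.val_mul, ← mulVec_mulVec]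
    have hmap : ∀ x : F, finrank F (eig g'.1 x) ≤ finrank F (eig g'.1 (-x)) := fun x =>
      LinearMap.finrank_le_finrank_of_injective (f := (Matrix.toLin' (h.1 : Matrix ι ι F)).restrict
        (p := eig g'.1 x) (q := eig g'.1 (-x)) fun w hw => by
          have h1 := hanti w
          rw [mem_eig.1 hw, mulVec_smul] at h1
          rw [mem_eig, Matrix.toLin'_apply]
          calc (g'.1 : Matrix ι ι F) *ᵥ ((h.1 : Matrix ι ι F) *ᵥ w)
              = (-1 : F) • (x • ((h.1 : Matrix ι ι F) *ᵥ w)) := by rw [h1, smul_smul, neg_one_mul, neg_neg, one_smul]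
            _ = (-x) • ((h.1 : Matrix ι ι F) *ᵥ w) := by rw [smul_smul, neg_one_mul])
        (fun a b hab => Subtype.ext (mulVec_injective_of_isUnit h.1.isUnit (congrArg Subtype.val hab)))
    have h1 := hmap 1
    have h1' := hmap (-1)
    rw [neg_neg] at h1'
    have hsum := eig_dim H.two hsq
    rw [H.card] at hsum
    have hd : (g'.1 : Matrix ι ι F).det = 1 := by
      rw [det_invol H.two hsq, show finrank F (eig g'.1 (-1 : F)) = m by omega, hev.neg_one_pow]
    have := (H.dt_eq_one_iff s).2 hd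
    rw [hdts] at this
    exact absurd this (by decide)

/-- In a group, `(S a)² = T a²` forces `T = 1` when the involution `S` commutes with `a` up to a factor that does. -/
theorem eq_one_of_conj {X : Type*} [Group X] {a b z S T : X} (key : S * a * (S * a) = T * (a * a)) (hS : S * S = 1)
    (hab : Commute a b) (haz : Commute a z) (e : S * z = b) : T = 1 := by
  have hc : Commute a S := by
    rw [show S = b * z⁻¹ by rw [← e, mul_inv_cancel_right]]
    exact hab.mul_right haz.inv_right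
  rw [mul_assoc, ← mul_assoc a S, hc.eq, mul_assoc, ← mul_assoc S S, hS, one_mul] at key
  exact right_eq_mul.1 key

/-- An element of `ker ds` of non-square multiplier does not commute with a graph automorphism modulo inner
automorphisms. -/
theorem not_commute (H : Setup Q m) (h0 : negSign Q H.nondeg H.two = 1) {g h : sim Q} (hg : H.ds g = -1)
    (hh : H.sg h = -1) (hh' : H.ds h = 1) : ¬ Commute (outHom Q h) (outHom Q g) := by
  intro hcomm
  obtain ⟨t, ht⟩ := H.exists_t
  obtain ⟨s, hs, hss⟩ := H.exists_refl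
  set S := outHom Q (toSim Q s) with hS
  have hz : H.ds ((toSim Q s)⁻¹ * g) = 1 := by rw [map_mul, map_inv, ds_toSim, hs, hg]; rfl
  have hzc : Commute (outHom Q h) (outHom Q ((toSim Q s)⁻¹ * g)) := by
    rcases Int.units_eq_one_or (H.sg ((toSim Q s)⁻¹ * g)) with a | a
    · rcases out_mem H h0 ht a hz with e | e <;> rw [e]
      · exact Commute.one_right _
      · exact out_t_central H h0 ht h
    · have key : Commute (outHom Q h) (outHom Q (h⁻¹ * ((toSim Q s)⁻¹ * g))) := by
        rcases out_mem H h0 ht (g := h⁻¹ * ((toSim Q s)⁻¹ * g)) (by rw [map_mul, map_inv, hh, a]; rfl)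
          (by rw [map_mul, map_inv, hh', hz, inv_one, one_mul]) with e | e <;> rw [e]
        · exact Commute.one_right _
        · exact out_t_central H h0 ht h
      have := (Commute.refl (outHom Q h)).mul_right key
      rwa [← map_mul, mul_inv_cancel_left] at this
  have e : outHom Q (toSim Q s) * outHom Q ((toSim Q s)⁻¹ * g) = outHom Q g := by
    rw [← map_mul, mul_inv_cancel_left]
  refine out_t_ne_one H h0 ht (eq_one_of_conj (out_sq H h0 ht hh hs) ?_ hcomm hzc e)
  rw [← map_mul, ← map_mul, hss, map_one, map_one]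

theorem pso_le_inndiag (H : Setup Q m) : Cfsg.psoAut F ⇑Q ≤ H.ds.ker.map (simAut Q) := fun x hx => by
  obtain ⟨s, hs, rfl⟩ := (psoAut_mem H).1 hx
  exact ⟨_, MonoidHom.mem_ker.2 (by rw [ds_toSim, hs]), rfl⟩

/-- Counting the classes in a class of involutory graph automorphisms. -/
theorem split (H : Setup Q m) (hm : 4 ≤ m) {g : sim Q} (hds : H.ds g = -1) (hord : orderOf (simAut Q g) = 2)
    (hw : ∃ (r : sim Q) (s : Cfsg.isometryGroup F ⇑Q) (d : Fˣ) (e : ℕ), H.sg r = -1 ∧ H.ds r = 1 ∧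
      H.dt s = (-1) ^ e ∧ ((r * toSim Q s) * (r * toSim Q s) : sim Q).1 = GeneralLinearGroup.scalar ι d) :
    (negSign Q H.nondeg H.two = 1 →
      Cfsg.splitClassCount (H.ds.ker.map (simAut Q)) (Cfsg.Inn (Cfsg.POmega F ⇑Q)) (simAut Q g) = 2) ∧
    (negSign Q H.nondeg H.two = -1 →
      Cfsg.splitClassCount (H.ds.ker.map (simAut Q)) (Cfsg.Inn (Cfsg.POmega F ⇑Q)) (simAut Q g) = 1 ∨
      Cfsg.splitClassCount (H.ds.ker.map (simAut Q)) (Cfsg.Inn (Cfsg.POmega F ⇑Q)) (simAut Q g) = 2) := by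
  obtain ⟨r, s, d, e, hr, hr', hs, hrs⟩ := hw
  set G := H.ds.ker.map (simAut Q) with hG
  set I := Cfsg.Inn (Cfsg.POmega F ⇑Q) with hI
  have hIG : I ≤ G := (inn_le_pso H).trans (pso_le_inndiag H)
  rw [Twist.splitClassCount_eq_relIndex hIG]
  set M := I ⊔ (G ⊓ Subgroup.centralizer {simAut Q g}) with hM
  have hidx : ∀ {P : Type} [Group P] [Finite P] (φ : ↥G →* P), Function.Surjective φ → φ.ker = I.subgroupOf G →
      I.relIndex G = Nat.card P := fun φ hφ hk => by
    rw [Subgroup.relIndex, ← hk, Subgroup.index_ker, MonoidHom.range_eq_top.2 hφ, Subgroup.card_top]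
  refine ⟨fun h0 => ?_, fun h0 => ?_⟩
  · have h4 : I.relIndex G = 4 := by
      rcases Int.units_eq_one_or ((-1 : ℤˣ) ^ e) with he | he
      · obtain ⟨φ, hφ, hk⟩ := (inndiag_four H h0 hr hr' hrs).2 (hs.trans he)
        rw [hidx φ hφ hk, Nat.card_congr Multiplicative.toAdd, Nat.card_prod, Nat.card_zmod]
      · obtain ⟨φ, hφ, hk⟩ := (inndiag_four H h0 hr hr' hrs).1 (hs.trans he)
        rw [hidx φ hφ hk, Nat.card_congr Multiplicative.toAdd, Nat.card_zmod]
    obtain ⟨g', hg', t, ht⟩ := exists_turn H hm hds hord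
    have hMp : M = Cfsg.psoAut F ⇑Q := by
      refine le_antisymm (sup_le (inn_le_pso H) ?_) fun x hx => ?_
      · rintro x ⟨⟨h, hh, rfl⟩, hcen⟩
        have hh' : H.ds h = 1 := hh
        have hcc : Commute (outHom Q h) (outHom Q g) :=
          (show Commute (simAut Q h) (simAut Q g) from Subgroup.mem_centralizer_singleton_iff.1 hcen).map
            (QuotientGroup.mk' I)
        have hsg : H.sg h = 1 :=
          (Int.units_eq_one_or _).resolve_right fun hn => not_commute H h0 hds hn hh' hcc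
        obtain ⟨w, hw, e⟩ := H.exists_SO hsg hh'
        exact (psoAut_mem H).2 ⟨w, hw, e.symm⟩
      · obtain ⟨w, hw, rfl⟩ := (psoAut_mem H).1 hx
        rcases Int.units_eq_one_or (H.th w) with hθ | hθ
        · exact Subgroup.mem_sup_left ((inn_iff_of_sq H h0 hw).2 hθ)
        · rw [show w = (w * t⁻¹) * t by group, map_mul, map_mul]
          refine Subgroup.mul_mem_sup ((inn_iff_of_sq H h0 (by rw [map_mul, map_inv, hw, ht.1]; rfl)).2
            (by rw [map_mul, map_inv, hθ, ht.2.1]; rfl)) ⟨⟨_, MonoidHom.mem_ker.2 (by rw [ds_toSim, ht.1]), rfl⟩,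
            Subgroup.mem_centralizer_singleton_iff.2 ?_⟩
          rw [← hg', ← map_mul, ← map_mul, ht.2.2]
    have hmul := Subgroup.relIndex_mul_relIndex _ _ _ (inn_le_pso H) (pso_le_inndiag H)
    rw [(relIndex_pso H).2 h0] at hmul
    change 2 * (Cfsg.psoAut F ⇑Q).relIndex G = I.relIndex G at hmul
    rw [hMp]
    omega
  · obtain ⟨φ, hφ, hk⟩ := inndiag_two H h0 hr hr'
    have h2' : I.relIndex G = 2 := by rw [hidx φ hφ hk, Nat.card_congr Multiplicative.toAdd, Nat.card_zmod]
    have hdvd : M.relIndex G ∣ I.relIndex G := Subgroup.relIndex_dvd_of_le_left G le_sup_left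
    rw [h2'] at hdvd
    exact (Nat.dvd_prime Nat.prime_two).1 hdvd

/-- For even `m` the class always splits into two when the discriminant is a non-square. -/
theorem split_even (H : Setup Q m) (hev : Even m) {g : sim Q} (hds : H.ds g = -1)
    (hord : orderOf (simAut Q g) = 2) {r : sim Q} (hr : H.sg r = -1) (hr' : H.ds r = 1)
    (h0 : negSign Q H.nondeg H.two = -1) :
    Cfsg.splitClassCount (H.ds.ker.map (simAut Q)) (Cfsg.Inn (Cfsg.POmega F ⇑Q)) (simAut Q g) = 2 := by
  rw [Twist.splitClassCount_eq_relIndex ((inn_le_pso H).trans (pso_le_inndiag H)), sup_eq_left.2]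
  · obtain ⟨φ, hφ, hk⟩ := inndiag_two H h0 hr hr'
    rw [Subgroup.relIndex, ← hk, Subgroup.index_ker, MonoidHom.range_eq_top.2 hφ, Subgroup.card_top,
      Nat.card_congr Multiplicative.toAdd, Nat.card_zmod]
  · rintro x ⟨⟨h, hh, rfl⟩, hcen⟩
    have hsg : H.sg h = 1 := (Int.units_eq_one_or _).resolve_right fun hn =>
      not_commute_even H hev hds hord hn (Subgroup.mem_centralizer_singleton_iff.1 hcen)
    obtain ⟨w, hw, e⟩ := H.exists_SO hsg hh
    rw [← H.pso_eq_inn h0]
    exact (psoAut_mem H).2 ⟨w, hw, e.symm⟩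

end Cfsg.Agent.H96.OrthClass
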