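import Mathlib
import Cfsg.Agent.H96.OrthClass.GraphSplit
import Cfsg.Agent.H58.OrthoField.BalanceMinus

/-!
# Involutory graph automorphisms of the minus type are induced by similitudes
-/

set_option autoImplicit false
set_option linter.unusedSectionVars false

namespace Cfsg.Agent.H96.OrthClass

open Matrix Module Cfsg.Agent.Orthogonal Cfsg.Agent.H58 Cfsg.Agent.H58.OrthoAut Cfsg.Agent.H58.OrthoOuter
  Cfsg.Agent.H58.OrthoField Cfsg.Agent.H58.Twist

universe u

theorem exists_sim_of_involution {F : Type u} [Field F] [Fintype F] {m : ℕ} (hm : 3 ≤ m) {a b : F}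
    (hab : ∀ z₁ z₂ : F, z₁ ^ 2 + a * z₁ * z₂ + b * z₂ ^ 2 = 0 → z₁ = 0 ∧ z₂ = 0)
    (x : MulAut (Cfsg.POmega F ⇑(formMinus F m a b))) (hx : orderOf x = 2) :
    ∃ g : sim (formMinus F m a b), x = simAut _ g := by
  have hm2 : 2 ≤ m := by omega
  have S := space_minus hm2 hab
  obtain ⟨g, σ, hg, rfl⟩ := exists_semi (gamma_minus (F := F) hm hab) x
  by_cases hσ : σ = RingEquiv.refl F
  · subst hσ
    exact ⟨_, semiAut_eq_simAut hg⟩
  · obtain ⟨hoσ, G, hG, he, hN⟩ :=
      exists_normProd_one hg S.nondeg S.five hσ Nat.prime_two (pow_eq_one_of_orderOf hx)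
    letI : Fintype (Descent.fixedField σ) := Fintype.ofFinite _
    obtain ⟨hodd, -⟩ := descends_minus hm2 hab (fixedBy_subtype σ) Nat.prime_two hoσ hG
      (show normProd (gmap σ) G (orderOf σ) = 1 by rw [hoσ]; exact hN)
    exact absurd hodd (by decide)

end Cfsg.Agent.H96.OrthClass
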